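import Cfsg.Agent.Lib.TensorMax63.Slice

/-!
The centraliser of a pure involution with two large eigenspaces preserves the decomposition; so does the
conjugator of a pure root element to a pure element.
-/

set_option autoImplicit false
set_option linter.unusedSectionVars false
set_option linter.unusedSimpArgs false

namespace CfsgLib.TensorMax63

open Matrix QuadraticMap CfsgLib.Orth
open CfsgLib.GeomClasses (OrthTools.orth OrthTools.mem_orth)

section

variable {κ : Type} [Fintype κ] [DecidableEq κ] {F : Type*} [Field F] [Fintype F] [DecidableEq F]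
  {p : QuadraticForm F (κ → F)}

theorem eich_pow {u a : κ → F} (hu : p u = 0) (ha : polar p u a = 0) (k : ℕ) :
    eich p u a ^ k = eich p u ((k : F) • a) := by
  induction k with
  | zero => rw [pow_zero, Nat.cast_zero, zero_smul, ← zero_smul F u, eich_smul_self hu]
  | succ k ih => rw [pow_succ, ih, eich_add hu (by rw [polar_smul_right, ha, smul_zero]) ha, Nat.cast_succ,
      add_smul, one_smul]

/-- An isometry of determinant one fixing a hyperplane pointwise is trivial. -/
theorem eq_one_of_fix (hp : p.polarBilin.Nondegenerate) (h2 : (2 : F) ≠ 0) {u : O p} (hu : detHom p u = 1)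
    (hfix : Fintype.card κ ≤ Module.finrank F (fixS u) + 1) : u = 1 := by
  have hm : Module.finrank F (movS u) ≤ 1 := by
    rw [movS_eq hp, LinearMap.BilinForm.finrank_orthogonal hp, Module.finrank_fintype_fun_eq_card]
    omega
  rcases Nat.le_one_iff_eq_zero_or_eq_one.1 hm with h | h
  · refine ext_app fun x => ?_
    have : x - app u x ∈ (⊥ : Submodule F (κ → F)) := by
      rw [← Submodule.finrank_eq_zero.1 h]; exact mem_movS.2 ⟨x, rfl⟩
    rw [Submodule.mem_bot, sub_eq_zero] at this
    rw [app_one, ← this]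
  · obtain ⟨f, hf0, hf⟩ := finrank_eq_one_iff'.1 h
    have hf0' : (f : κ → F) ≠ 0 := fun hz => hf0 (Subtype.ext hz)
    obtain ⟨a, ha⟩ := exists_polar_eq_one hp hf0'
    let φ : (κ → F) →ₗ[F] F := (p.polarBilin.flip a).comp (app u - LinearMap.id)
    have hu' : ∀ x, app u x = x + φ x • (f : κ → F) := by
      intro x
      obtain ⟨c, hc⟩ := hf ⟨_, mem_movS.2 ⟨x, rfl⟩⟩
      have hc' : c • (f : κ → F) = x - app u x := congrArg Subtype.val hc
      have : φ x = -c := by
        show polar p (app u x - x) a = -c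
        rw [← neg_sub x (app u x), polar_neg_left, ← hc', polar_smul_left, ha, smul_eq_mul, mul_one]
      rw [this, neg_smul, hc']
      abel
    by_cases hqf : p f = 0
    · refine eq_one_of_rank_one hp h2 φ hu' ?_
      have h1 := Q_app u (f : κ → F)
      have hfm : (f : κ → F) ∈ fixS u := by
        rw [fixS_eq hp, LinearMap.BilinForm.mem_orthogonal_iff]
        intro y hy
        obtain ⟨c, hc⟩ := hf ⟨y, hy⟩
        rw [← show c • (f : κ → F) = y from congrArg Subtype.val hc]
        show polar p (c • (f : κ → F)) f = 0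
        rw [polar_smul_left, polar_self', hqf, mul_zero, smul_zero]
      have h3 := hu' f
      rw [mem_fixS.1 hfm, left_eq_add, smul_eq_zero] at h3
      exact h3.resolve_right hf0'
    · exfalso
      set k := φ f
      have hk : k = 0 ∨ k = -2 := by
        have h1 := Q_app u (f : κ → F)
        rw [hu', show (f : κ → F) + k • (f : κ → F) = (1 + k) • (f : κ → F) by rw [add_smul, one_smul],
          QuadraticMap.map_smul, smul_eq_mul] at h1
        have h3 : (1 + k) * (1 + k) = 1 := mul_right_cancel₀ hqf (by rw [h1, one_mul])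
        rcases mul_self_eq_one_iff.1 h3 with h4 | h4
        · exact Or.inl (by linear_combination h4)
        · exact Or.inr (by linear_combination h4)
      have hperp : ∀ x, polar p x f = 0 → app u x = x := fun x hx => by
        rw [← mem_fixS, fixS_eq hp, LinearMap.BilinForm.mem_orthogonal_iff]
        intro y hy
        obtain ⟨c, hc⟩ := hf ⟨y, hy⟩
        rw [← show c • (f : κ → F) = y from congrArg Subtype.val hc]
        show polar p (c • (f : κ → F)) x = 0
        rw [polar_smul_left, polar_comm, hx, smul_zero]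
      have hall : ∀ x, app u x = x + (polar p x f * (2 * p f)⁻¹ * k) • (f : κ → F) := by
        intro x
        set c := polar p x f * (2 * p f)⁻¹ with hc
        have hy := hperp (x - c • (f : κ → F)) (by
          rw [polar_sub_left, polar_smul_left, polar_self', hc, smul_eq_mul]
          field_simp
          ring)
        rw [map_sub, map_smul, hu' f] at hy
        linear_combination (norm := module) hy
      rcases hk with hk | hk
      · refine hf0' ?_
        obtain ⟨x, hx⟩ := mem_movS.1 f.2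
        rw [hall, hk, mul_zero, zero_smul, add_zero, sub_self] at hx
        exact hx.symm
      · have hur : u = refl p f := ext_app fun x => by
          rw [hall, app_refl, hk]
          match_scalars <;> field_simp
        rw [hur, detHom_refl hqf] at hu
        exact h2 (by have := congrArg Units.val hu; simp at this; linear_combination -this)

/-- The orthogonal bases of a plane have the same discriminant class. -/
theorem plane_class {a b a' b' : κ → F} (hab : polar p a b = 0) (ha : p a ≠ 0) (hb : p b ≠ 0)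
    (hsq : IsSquare (p a * p b)) (s t s' t' : F) (ha' : a' = s • a + t • b) (hb' : b' = s' • a + t' • b)
    (h' : polar p a' b' = 0) : IsSquare (p a' * p b') := by
  obtain ⟨r, hr⟩ := hsq
  have e1 : ∀ s t : F, p (s • a + t • b) = s * s * p a + t * t * p b := fun s t => by
    rw [QuadraticMap.map_add ⇑p, QuadraticMap.map_smul, QuadraticMap.map_smul, polar_smul_left, polar_smul_right, hab]
    simp
  have e2 : polar p a' b' = 2 * (s * s' * p a + t * t' * p b) := by
    subst ha' hb'
    simp only [polar_add_left, polar_add_right, polar_smul_left, polar_smul_right, polar_self', hab,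
      polar_comm (f := ⇑p) b a, smul_eq_mul]
    ring
  by_cases h2 : (2 : F) = 0
  · exact FiniteField.isSquare_of_char_two (ringChar.eq_iff.2 (CharTwo.of_one_ne_zero_of_two_eq_zero one_ne_zero h2)) _
  have e3 : s * s' * p a + t * t' * p b = 0 := by
    rw [h'] at e2
    exact (mul_eq_zero.1 e2.symm).resolve_left h2
  refine ⟨r * (s * t' - t * s'), ?_⟩
  rw [ha', hb', e1, e1]
  linear_combination (s * s' * p a + t * t' * p b) * e3 + (s * t' - t * s') ^ 2 * hr

end

variable {ι : Type} [Fintype ι] [DecidableEq ι] {F : Type*} [Field F] [Fintype F] [DecidableEq F] {n₁ n₂ : ℕ}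
  {q : QuadraticForm F (ι → F)} {q₁ : QuadraticForm F (Fin n₁ → F)} {q₂ : QuadraticForm F (Fin n₂ → F)}
  (X : Setting q q₁ q₂)

namespace Setting

variable {M : Subgroup (O q)}

/-- An element of the tensor group fixing the vectors over one right vector is pure. -/
theorem eq_emb₂_of_fix {g : O q} (hg : g ∈ X.T) {v : Fin n₂ → F} (hv : v ≠ 0)
    (hfix : ∀ x, app g (X.τ x v) = X.τ x v) : ∃ b, g = X.emb (1, b) ∧ app b v = v := by
  obtain ⟨a, b, ha, rfl⟩ := X.det_normalise g hg
  obtain ⟨ψ, hψ⟩ := exists_polar_eq_one X.nd₂ hv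
  set l := polar q₂ (app b v) ψ
  have hab : ∀ x, l • app a x = x := fun x => by
    have h := congrArg (X.C ψ) (hfix x)
    rw [X.app_emb, X.C_τ, X.C_τ, hψ, one_smul] at h
    exact h
  obtain ⟨x₀, hx₀⟩ := exists_anisotropic X.nd₁ (by rw [Fintype.card_fin]; have := X.three; omega)
  have hx00 : x₀ ≠ 0 := fun h => hx₀ (by rw [h, QuadraticMap.map_zero])
  have hl : l * l = 1 := by
    have h := congrArg q₁ (hab x₀)
    rw [QuadraticMap.map_smul, Q_app, smul_eq_mul] at h
    exact mul_right_cancel₀ hx₀ (h.trans (one_mul _).symm)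
  have ha1 : a = 1 := by
    rcases mul_self_eq_one_iff.1 hl with h1 | h1
    · exact ext_app fun x => by have := hab x; rw [h1, one_smul] at this; rw [this, app_one]
    · exfalso
      have hneg : a = negO q₁ := ext_app fun x => by
        have := hab x
        rw [h1, neg_one_smul] at this
        rw [app_negO, ← neg_neg (app a x), this]
      rw [hneg, detHom_negO q₁ (by rw [Fintype.card_fin]; exact X.odd₁)] at ha
      exact X.two (by have := congrArg Units.val ha; simp at this; linear_combination -this)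
  subst ha1
  refine ⟨b, rfl, sub_eq_zero.1 (X.τ_inj_right hx00 ?_)⟩
  have h := hfix x₀
  rw [X.app_emb, app_one] at h
  rw [map_sub, h, sub_self]

theorem exists_emb₂ (hO : X.Over M) {g : O q} (hg : g ∈ M) {w : Fin n₂ → F} (hw : q₂ w = 0) (hw0 : w ≠ 0)
    (hfix : ∀ x, app g (X.τ x w) = X.τ x w) : ∃ b, g = X.emb (1, b) ∧ app b w = w :=
  X.eq_emb₂_of_fix (X.slice hO hw hw0 hg fun x => ⟨x, hfix x⟩) hw0 hfix

/-- Conjugating a pure root element to a pure element forces tensor type. -/
theorem slice_of_conj (hO : X.Over M) {w w' c : Fin n₂ → F} (P : Hyp q₂ w w') (hc : c ∈ mid q₂ w w')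
    (hqc : q₂ c ≠ 0) {g : O q} (hg : g ∈ M) {b : O q₂}
    (h : g * X.emb (1, eich q₂ w c) * g⁻¹ = X.emb (1, b)) : g ∈ X.T := by
  obtain ⟨hwc, hw'c⟩ := mem_mid.1 hc
  set R := X.emb (1, eich q₂ w c) with hR
  have hk : (2 : F) * q₂ c ≠ 0 := mul_ne_zero X.two hqc
  have hN : ∀ z, app R (app R z - z) - (app R z - z) = X.τ ((-(2 * q₂ c)) • X.C w z) w := by
    intro z
    have e : app R z - z = X.τ (X.C w z) c + X.τ (-(X.C c z) - q₂ c • X.C w z) w := by
      rw [hR, X.app_R P.q₁ hwc]; abel
    rw [e, map_add, hR, X.app_R P.q₁ hwc, X.app_R P.q₁ hwc]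
    simp only [map_add, X.C_τ, polar_comm (f := ⇑q₂) c w, hwc, P.self₁, polar_self', zero_smul, smul_zero,
      map_zero, LinearMap.zero_apply, neg_zero, sub_zero, zero_add, add_zero, map_neg, LinearMap.neg_apply,
      map_smul, LinearMap.smul_apply, neg_smul]
    abel
  let U : (Fin n₁ → F) →ₗ[F] (ι → F) := (app g).comp ((LinearMap.flip X.τ) w)
  have hUinj : Function.Injective U := fun x y hxy => by
    have h' : X.τ (x - y) w = 0 := by
      rw [map_sub, LinearMap.sub_apply, sub_eq_zero]
      exact app_injective g hxy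
    exact sub_eq_zero.1 (X.τ_inj_left P.ne₁ h')
  have happ : ∀ z, app (X.emb (1, b)) z = app g (app R (app g⁻¹ z)) := fun z => by
    rw [← h, app_mul, app_mul]
  have hmem : ∀ a u, X.τ a (app b (app b u - u) - (app b u - u)) ∈ LinearMap.range U := by
    intro a u
    refine ⟨(-(2 * q₂ c)) • X.C w (app g⁻¹ (X.τ a u)), ?_⟩
    show app g (X.τ ((-(2 * q₂ c)) • X.C w (app g⁻¹ (X.τ a u))) w) = _
    rw [← hN]
    simp only [map_sub, ← happ, app_app_inv]
    rw [← show app (X.emb (1, b)) (app (X.emb (1, b)) (X.τ a u)) =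
      app g (app R (app R (app g⁻¹ (X.τ a u)))) by rw [happ, happ, app_inv_app]]
    simp only [X.app_emb, app_one]
  obtain ⟨u₀, hu₀⟩ : ∃ u, app b (app b u - u) - (app b u - u) ≠ 0 := by
    by_contra hcon
    push Not at hcon
    obtain ⟨a₀, ha₀⟩ := exists_anisotropic X.nd₁ (by rw [Fintype.card_fin]; have := X.three; omega)
    have hzero : (app (X.emb (1, b)) - LinearMap.id).comp (app (X.emb (1, b)) - LinearMap.id) = 0 :=
      X.ext_τ fun a u => by
        simp only [LinearMap.comp_apply, LinearMap.sub_apply, LinearMap.id_apply, map_sub, X.app_emb, app_one,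
          LinearMap.zero_apply]
        have := congrArg (X.τ a) (hcon u)
        simp only [map_sub, map_zero] at this
        exact this
    have h0 := LinearMap.congr_fun hzero (app g (X.τ a₀ w'))
    simp only [LinearMap.comp_apply, LinearMap.sub_apply, LinearMap.id_apply, LinearMap.zero_apply, map_sub,
      happ, app_inv_app] at h0
    rw [← map_sub, ← map_sub, ← map_sub, ← map_sub, hN, X.C_τ, P.pair', one_smul] at h0
    have := X.τ_inj_left P.ne₁ (app_injective g (by rw [h0, map_zero]))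
    rw [smul_eq_zero, neg_eq_zero] at this
    exact ha₀ (by rw [this.resolve_left hk, QuadraticMap.map_zero])
  set r := app b (app b u₀ - u₀) - (app b u₀ - u₀) with hr
  let V' : (Fin n₁ → F) →ₗ[F] (ι → F) := (LinearMap.flip X.τ) r
  have hV'inj : Function.Injective V' := fun x y hxy => by
    have h' : X.τ (x - y) r = 0 := by
      rw [show X.τ (x - y) r = V' x - V' y from map_sub V' x y, hxy, sub_self]
    exact sub_eq_zero.1 (X.τ_inj_left hu₀ h')
  have heq : LinearMap.range V' = LinearMap.range U := by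
    refine Submodule.eq_of_le_of_finrank_eq ?_ (by
      rw [LinearMap.finrank_range_of_inj hV'inj, LinearMap.finrank_range_of_inj hUinj])
    rintro _ ⟨a, rfl⟩
    exact hmem a u₀
  refine X.slice hO P.q₁ P.ne₁ hg (v := r) fun x => ?_
  have hx : U x ∈ LinearMap.range V' := heq ▸ ⟨x, rfl⟩
  obtain ⟨a, ha⟩ := hx
  exact ⟨a, ha.symm⟩

/-- An element of the tensor group conjugate to a pure root element is pure. -/
theorem pure_of_conj {w w' c : Fin n₂ → F} (P : Hyp q₂ w w') (hc : c ∈ mid q₂ w w') {g y : O q}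
    (hy : y ∈ X.T) (h : g * X.emb (1, eich q₂ w c) * g⁻¹ = y) : ∃ b, y = X.emb (1, b) := by
  obtain ⟨hwc, -⟩ := mem_mid.1 hc
  obtain ⟨a, b, ha, rfl⟩ := X.det_normalise y hy
  refine ⟨b, ?_⟩
  suffices a = 1 by rw [this]
  by_contra hne
  set p := ringChar F
  haveI : CharP F p := ringChar.charP F
  haveI hp : Fact p.Prime := ⟨CharP.char_is_prime F p⟩
  have hpow : X.emb (a ^ p, b ^ p) = 1 := by
    rw [show (a ^ p, b ^ p) = (a, b) ^ p from rfl, map_pow, ← h, conj_pow, ← map_pow, Prod.pow_mk, one_pow,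
      eich_pow P.q₁ hwc, CharP.cast_eq_zero, zero_smul, ← zero_smul F w, eich_smul_self P.q₁, Prod.mk_one_one,
      map_one, mul_one, mul_inv_cancel]
  obtain ⟨hap, hbp⟩ := X.emb_eq_one (by rw [map_pow, ha, one_pow]) hpow
  have hnil : ∀ {n : ℕ} {Q : QuadraticForm F (Fin n → F)} (g : O Q), g ^ p = 1 →
      ∀ x, ((app g - LinearMap.id : Module.End F (Fin n → F)) ^ p) x = 0 := by
    intro n Q g hg x
    have hm : (((g : Matrix.GeneralLinearGroup (Fin n) F) : Matrix (Fin n) (Fin n) F) - 1) ^ p = 0 := by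
      rcases isEmpty_or_nonempty (Fin n) with hn | hn
      · exact Subsingleton.elim _ _
      rw [sub_pow_char_of_commute p (Commute.one_right _), ← Units.val_pow_eq_pow_val,
        ← SubgroupClass.coe_pow, hg, one_pow]
      simp
    have e : (app g - LinearMap.id : Module.End F (Fin n → F)) =
        Matrix.toLinAlgEquiv' (((g : Matrix.GeneralLinearGroup (Fin n) F) : Matrix (Fin n) (Fin n) F) - 1) := by
      refine LinearMap.ext fun y => ?_
      simp [app_apply, Matrix.sub_mulVec]
    rw [e, ← map_pow, hm, map_zero]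
    rfl
  set N : Module.End F (Fin n₁ → F) := app a - LinearMap.id with hN
  set Mb : Module.End F (Fin n₂ → F) := app b - LinearMap.id with hMb
  -- two independent images of `N`
  obtain ⟨x₁, x₂, hind⟩ : ∃ x₁ x₂, ∀ s t : F, s • N x₁ + t • N x₂ = 0 → s = 0 ∧ t = 0 := by
    obtain ⟨x₁, hx₁⟩ : ∃ x, N x ≠ 0 := by
      by_contra hc'
      push Not at hc'
      exact hne (ext_app fun x => by rw [app_one]; exact sub_eq_zero.1 (hc' x))
    by_contra hc'
    push Not at hc'
    set e := N x₁
    have hline : ∀ x, ∃ t : F, N x = t • e := by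
      intro x
      obtain ⟨s, t, hst, hne'⟩ := hc' x₁ x
      by_cases ht : t = 0
      · rw [ht, zero_smul, add_zero, smul_eq_zero] at hst
        exact absurd ht (hne' (hst.resolve_right hx₁))
      · refine ⟨-(t⁻¹ * s), ?_⟩
        rw [← inv_smul_smul₀ ht (N x), eq_neg_of_add_eq_zero_right hst, smul_neg, smul_smul, neg_smul]
    obtain ⟨φv, hφv⟩ := exists_polar_eq_one X.nd₁ hx₁
    let φ : (Fin n₁ → F) →ₗ[F] F := (q₁.polarBilin.flip φv).comp N
    have hNφ : ∀ x, N x = φ x • e := fun x => by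
      obtain ⟨t, ht⟩ := hline x
      show N x = polar q₁ (N x) φv • e
      rw [ht, polar_smul_left, hφv, smul_eq_mul, mul_one]
    have hpowN : ∀ k, (N ^ k) e = φ e ^ k • e := by
      intro k
      induction k with
      | zero => simp
      | succ k ih => rw [pow_succ', Module.End.mul_apply, ih, map_smul, hNφ, smul_smul, pow_succ]
    have hφe : φ e = 0 := by
      have h0 := hnil a hap e
      rw [← hN, hpowN, smul_eq_zero] at h0
      exact (pow_eq_zero_iff hp.out.ne_zero).1 (h0.resolve_right hx₁)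
    refine hne (eq_one_of_rank_one X.nd₁ X.two φ (fun x => ?_) hφe)
    rw [← hNφ]
    show app a x = x + (app a x - x)
    abel
  let Φ : (Fin n₂ → F) × (Fin n₂ → F) →ₗ[F] (ι → F) :=
    (app (X.emb (a, b)) - LinearMap.id).comp ((X.τ x₁).coprod (X.τ x₂))
  have hΦ : Function.Injective Φ := by
    rw [← LinearMap.ker_eq_bot, Submodule.eq_bot_iff]
    rintro ⟨u₁, u₂⟩ hu
    have h0 : X.τ (N x₁) (app b u₁) + X.τ x₁ (Mb u₁) + (X.τ (N x₂) (app b u₂) + X.τ x₂ (Mb u₂)) = 0 := by
      have := LinearMap.mem_ker.1 hu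
      simp only [Φ, LinearMap.comp_apply, LinearMap.coprod_apply, LinearMap.sub_apply, LinearMap.id_apply,
        map_add, X.app_emb] at this
      rw [← this]
      simp only [hN, hMb, LinearMap.sub_apply, LinearMap.id_apply, map_sub]
      abel
    have hcomm : ∀ k, (Mb ^ k) ∘ₗ app b = app b ∘ₗ (Mb ^ k) := by
      intro k
      have : Commute Mb (app b : Module.End F (Fin n₂ → F)) :=
        Commute.sub_left (Commute.refl _) (Commute.one_left _)
      exact (this.pow_left k).eq
    suffices ∀ j, (Mb ^ (p - j)) u₁ = 0 ∧ (Mb ^ (p - j)) u₂ = 0 by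
      have h' := this p
      rw [Nat.sub_self, pow_zero, Module.End.one_apply, Module.End.one_apply] at h'
      exact Prod.ext h'.1 h'.2
    intro j
    induction j with
    | zero => exact ⟨hnil b hbp u₁, hnil b hbp u₂⟩
    | succ j ih =>
      by_cases hj : p ≤ j
      · rwa [show p - (j + 1) = p - j by omega]
      obtain ⟨k, hk⟩ : ∃ k, p - j = k + 1 := ⟨p - j - 1, by omega⟩
      rw [hk] at ih
      rw [show p - (j + 1) = k by omega]
      have h' := congrArg (X.lift LinearMap.id (Mb ^ k)) h0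
      simp only [map_add, X.lift_τ, LinearMap.id_apply, map_zero] at h'
      rw [← Module.End.mul_apply (Mb ^ k) Mb, ← Module.End.mul_apply (Mb ^ k) Mb, ← pow_succ, ih.1, ih.2,
        map_zero, map_zero, add_zero, add_zero,
        show (Mb ^ k) (app b u₁) = app b ((Mb ^ k) u₁) from LinearMap.congr_fun (hcomm k) u₁,
        show (Mb ^ k) (app b u₂) = app b ((Mb ^ k) u₂) from LinearMap.congr_fun (hcomm k) u₂] at h'
      have key : ∀ φ, polar q₂ (app b ((Mb ^ k) u₁)) φ = 0 ∧ polar q₂ (app b ((Mb ^ k) u₂)) φ = 0 := fun φ => by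
        have := congrArg (X.C φ) h'
        rw [map_add, X.C_τ, X.C_τ, map_zero] at this
        exact hind _ _ this
      exact ⟨app_injective b (by rw [map_zero]; exact eq_zero_of_polar X.nd₂ fun φ => (key φ).1),
        app_injective b (by rw [map_zero]; exact eq_zero_of_polar X.nd₂ fun φ => (key φ).2)⟩
  let W : Submodule F (ι → F) := Submodule.map (app g)
    (LinearMap.range ((LinearMap.flip X.τ) c) ⊔ LinearMap.range ((LinearMap.flip X.τ) w))
  have hW : LinearMap.range Φ ≤ W := by
    rintro _ ⟨u, rfl⟩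
    refine (show ∀ z, app (X.emb (a, b)) z - z ∈ W from fun z => ?_) _
    obtain ⟨z, rfl⟩ : ∃ t, app g t = z := ⟨app g⁻¹ z, app_app_inv _ z⟩
    rw [← h, app_mul, app_mul, app_inv_app, ← map_sub]
    refine Submodule.mem_map_of_mem ?_
    rw [X.app_R P.q₁ hwc, add_assoc, add_sub_cancel_left]
    exact Submodule.add_mem_sup ⟨_, rfl⟩ ⟨_, rfl⟩
  have h1 := Submodule.finrank_mono hW
  rw [LinearMap.finrank_range_of_inj hΦ, Module.finrank_prod, Module.finrank_fin_fun] at h1
  have h3 : Module.finrank F W ≤ n₁ + n₁ := by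
    refine (Submodule.finrank_map_le _ _).trans ((Submodule.finrank_add_le_finrank_add_finrank _ _).trans ?_)
    refine Nat.add_le_add ((LinearMap.finrank_range_le _).trans ?_) ((LinearMap.finrank_range_le _).trans ?_) <;>
      rw [Module.finrank_fin_fun]
  have := X.lt
  omega

theorem mem_line {z : ι → F} {S : Submodule F (Fin n₂ → F)} (hS : ∀ φ ∈ S, X.C φ z = 0) {p : Fin n₂ → F}
    (hp : ∀ v, (∀ φ ∈ S, polar q₂ φ v = 0) → ∃ t : F, v = t • p) : ∃ x, z = X.τ x p := by
  have hperp : ∀ φ, polar q₂ p φ = 0 → φ ∈ S := by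
    intro φ hφ
    rw [← LinearMap.BilinForm.orthogonal_orthogonal X.nd₂ (polarBilin_isRefl X.nd₂) S,
      LinearMap.BilinForm.mem_orthogonal_iff]
    intro v hv
    rw [LinearMap.BilinForm.mem_orthogonal_iff] at hv
    obtain ⟨t, rfl⟩ := hp v fun φ' hφ' => hv φ' hφ'
    show polar q₂ (t • p) φ = 0
    rw [polar_smul_left, hφ, smul_zero]
  rcases eq_or_ne p 0 with rfl | hp0
  · exact ⟨0, by rw [X.eq_zero fun φ => hS φ (hperp φ (polar_zero_left _ _)), map_zero]⟩
  obtain ⟨ψ, hψ⟩ := exists_polar_eq_one X.nd₂ hp0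
  refine ⟨X.C ψ z, sub_eq_zero.1 (X.eq_zero fun φ => ?_)⟩
  have h := hS _ (hperp (φ - polar q₂ p φ • ψ) (by
    rw [polar_sub_right, polar_smul_right, hψ, smul_eq_mul, mul_one, sub_self]))
  rw [X.C_sub, X.C_smul, sub_eq_zero] at h
  rw [map_sub, X.C_τ, h, sub_self]

section elliptic

/-- `p` is the axis of an involution of determinant one of `Y` in `Ω`. -/
def IsAxis (Y : Submodule F (Fin n₂ → F)) (p : Fin n₂ → F) : Prop :=
  p ∈ Y ∧ q₂ p ≠ 0 ∧ ∃ a ∈ Y, ∃ b ∈ Y, q₂ a ≠ 0 ∧ q₂ b ≠ 0 ∧ polar q₂ p a = 0 ∧ polar q₂ p b = 0 ∧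
    polar q₂ a b = 0 ∧ IsSquare (q₂ a * q₂ b) ∧ ∀ v ∈ Y, polar q₂ p v = 0 → ∃ s t : F, v = s • a + t • b

variable {Y : Submodule F (Fin n₂ → F)} (hY : Nondeg q₂ Y) (hYd : Module.finrank F Y = 3)
include X hY hYd

theorem plane_span {e a b : Fin n₂ → F} (he : e ∈ Y) (ha : a ∈ Y) (hb : b ∈ Y) (hqe : q₂ e ≠ 0) (hqa : q₂ a ≠ 0)
    (hqb : q₂ b ≠ 0) (hea : polar q₂ e a = 0) (heb : polar q₂ e b = 0) (hab : polar q₂ a b = 0)
    {v : Fin n₂ → F} (hv : v ∈ Y) (hev : polar q₂ e v = 0) : ∃ s t : F, v = s • a + t • b := by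
  have h2 := X.two
  have hspan : Submodule.span F ({e, a, b} : Set (Fin n₂ → F)) = Y := by
    have hli : LinearIndependent F ![e, a, b] := by
      rw [Fintype.linearIndependent_iff]
      intro g hg
      simp only [Fin.sum_univ_three, Matrix.cons_val_zero, Matrix.cons_val_one, Matrix.cons_val_two,
        Matrix.head_cons, Matrix.tail_cons, Matrix.head_fin_const] at hg
      have key : ∀ x, g 0 * polar q₂ e x + g 1 * polar q₂ a x + g 2 * polar q₂ b x = 0 := fun x => by
        have := congrArg (fun y => polar q₂ y x) hg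
        simpa [polar_add_left, polar_smul_left, polar_zero_left] using this
      intro i
      fin_cases i
      · have := key e
        rw [polar_comm (f := ⇑q₂) a e, hea, polar_comm (f := ⇑q₂) b e, heb, polar_self'] at this
        simpa [h2, hqe] using this
      · have := key a
        rw [hea, polar_comm (f := ⇑q₂) b a, hab, polar_self'] at this
        simpa [h2, hqa] using this
      · have := key b
        rw [heb, hab, polar_self'] at this
        simpa [h2, hqb] using this
    have hr : Set.range ![e, a, b] = {e, a, b} := by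
      simp [Matrix.range_cons, Matrix.range_empty, Set.insert_comm, Set.union_comm]
      ext x; simp [or_comm, or_left_comm]
    refine Submodule.eq_of_le_of_finrank_eq (Submodule.span_le.2 ?_) ?_
    · rintro x (rfl | rfl | rfl) <;> assumption
    · rw [← hr, finrank_span_eq_card hli, Fintype.card_fin, hYd]
  rw [← hspan, Submodule.mem_span_triple] at hv
  obtain ⟨r, s, t, rfl⟩ := hv
  refine ⟨s, t, ?_⟩
  rw [polar_add_right, polar_add_right, polar_smul_right, polar_smul_right, polar_smul_right, hea, heb,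
    smul_zero, smul_zero, add_zero, add_zero, polar_self', smul_eq_mul, mul_eq_zero] at hev
  rw [hev.resolve_right (mul_ne_zero h2 hqe), zero_smul, zero_add]

/-- An axis orthogonal to a given anisotropic vector. -/
theorem exists_axis {e : Fin n₂ → F} (he : e ∈ Y) (hqe : q₂ e ≠ 0) :
    ∃ p, IsAxis (q₂ := q₂) Y p ∧ polar q₂ e p = 0 ∧ ∃ a ∈ Y, q₂ a = q₂ e ∧ polar q₂ e a = 0 ∧ polar q₂ p a = 0 := by
  have hP := nondeg_inf X.two hY he hqe
  have hd := finrank_inf_ge X.nd₂ Y e
  obtain ⟨a, ha, hqa⟩ := CfsgLib.OrthOmega.exists_value_sub X.two _ hP.sep (by omega) hqe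
  have hea := mem_orth_one.1 ha.2
  have hd' := finrank_inf_ge X.nd₂ (Y ⊓ OrthTools.orth q₂ (Submodule.span F {e})) a
  obtain ⟨p, hp, hqp⟩ := exists_aniso (nondeg_inf X.two hP ha (hqa ▸ hqe)) fun h => by
    rw [h, finrank_bot] at hd'; omega
  have hep := mem_orth_one.1 hp.1.2
  have hpa : polar q₂ p a = 0 := by rw [polar_comm]; exact mem_orth_one.1 hp.2
  refine ⟨p, ⟨hp.1.1, hqp, e, he, a, ha.1, hqe, hqa ▸ hqe, by rw [polar_comm]; exact hep, hpa, hea,
    ⟨q₂ e, by rw [hqa]⟩, fun v hv hpv => X.plane_span hY hYd hp.1.1 he ha.1 hqp hqe (hqa ▸ hqe)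
      (by rw [polar_comm]; exact hep) hpa hea hv hpv⟩, hep, a, ha.1, hqa, hea, hpa⟩

/-- The members of an orthogonal triple of equal values are axes. -/
theorem triple_axis {x a b : Fin n₂ → F} (hx : x ∈ Y) (ha : a ∈ Y) (hb : b ∈ Y) (hqx : q₂ x ≠ 0)
    (hqa : q₂ a ≠ 0) (hqb : q₂ b ≠ 0) (hxa : polar q₂ x a = 0) (hxb : polar q₂ x b = 0)
    (hab : polar q₂ a b = 0) (hsq : IsSquare (q₂ a * q₂ b)) : IsAxis (q₂ := q₂) Y x :=
  ⟨hx, hqx, a, ha, b, hb, hqa, hqb, hxa, hxb, hab, hsq,
    fun _ hv hxv => X.plane_span hY hYd hx ha hb hqx hqa hqb hxa hxb hab hv hxv⟩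

omit hY hYd in
/-- The flip with a given axis. -/
theorem exists_flip {p : Fin n₂ → F} (hp : IsAxis (q₂ := q₂) Y p) :
    ∃ h ∈ commutator (O q₂), h * h = 1 ∧ h ≠ 1 ∧ app h p = p ∧
      (∀ v, (∀ y ∈ Y, polar q₂ v y = 0) → app h v = v) ∧ ∀ v ∈ Y, polar q₂ p v = 0 → app h v = -v := by
  obtain ⟨-, -, a, ha, b, hb, hqa, hqb, hpa, hpb, hab, hsq, hspan⟩ := hp
  obtain ⟨d, hd⟩ := CfsgLib.OrthOmega.exists_not_square X.two
  have hmem : refl q₂ a * refl q₂ b ∈ commutator (O q₂) := by
    rw [commutator_eq X.nd₂ X.two hd, MonoidHom.mem_ker, map_mul, chiPair_cls X.two hd hqa, chiPair_cls X.two hd hqb]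
    have h := cls_mul X.two hqa hqb
    rw [show cls (q₂ a * q₂ b) = ((-1 : ℤˣ), (1 : ℤˣ)) by unfold cls; rw [if_pos hsq]] at h
    exact mul_right_cancel (b := ((-1 : ℤˣ), (1 : ℤˣ))) (h.symm.trans (one_mul _).symm)
  have haa : app (refl q₂ b) a = a := app_refl_of_ortho hab
  have hba : app (refl q₂ a) b = b := app_refl_of_ortho (by rw [polar_comm]; exact hab)
  refine ⟨refl q₂ a * refl q₂ b, hmem, ?_, fun h1 => ?_, ?_, fun v hv => ?_, fun v hv hpv => ?_⟩
  · have hc : refl q₂ a * refl q₂ b = refl q₂ b * refl q₂ a := by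
      have := refl_conj (refl q₂ a) b
      rw [hba, refl_inv] at this
      calc refl q₂ a * refl q₂ b = refl q₂ a * refl q₂ b * refl q₂ a * refl q₂ a := by
            rw [mul_assoc (_ * _), refl_mul_self, mul_one]
        _ = refl q₂ b * refl q₂ a := by rw [this]
    calc refl q₂ a * refl q₂ b * (refl q₂ a * refl q₂ b) = refl q₂ a * refl q₂ b * (refl q₂ b * refl q₂ a) := by
          rw [← hc]
      _ = 1 := by rw [mul_assoc, ← mul_assoc (refl q₂ b), refl_mul_self, one_mul, refl_mul_self]
  · have h := congrArg (fun k => app k a) h1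
    simp only [app_mul, app_one] at h
    rw [haa, app_refl_self hqa] at h
    refine hqa ?_
    have h' : (2 : F) • a = 0 := by rw [two_smul]; nth_rewrite 1 [← h]; exact neg_add_cancel a
    rw [(smul_eq_zero.1 h').resolve_left X.two, QuadraticMap.map_zero]
  · rw [app_mul, app_refl_of_ortho hpb, app_refl_of_ortho hpa]
  · rw [app_mul, app_refl_of_ortho (hv b hb), app_refl_of_ortho (hv a ha)]
  · obtain ⟨s, t, rfl⟩ := hspan v hv hpv
    rw [app_mul, map_add, map_smul, map_smul, haa, app_refl_self hqb, map_add, map_smul, map_smul,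
      app_refl_self hqa, map_neg, hba]
    module

variable (hO : X.Over M) (hPd : ∀ v, (∀ y ∈ Y, polar q₂ v y = 0) → q₂ v = 0 → v = 0) (hn5 : n₂ = 5)
include hO hPd hn5

omit hPd in
/-- A conjugate inside `M` of the flip with axis orthogonal to `e` sends its axis to a pure line. -/
theorem axis_step {m : O q} (hm : m ∈ M) (hfix : ∀ v, (∀ y ∈ Y, polar q₂ v y = 0) → ∀ x, app m (X.τ x v) = X.τ x v)
    {e e' : Fin n₂ → F} (he : e ∈ Y) (he' : e' ∈ Y) (hqe : q₂ e ≠ 0) (hqe' : q₂ e' ≠ 0)
    (hmap : ∀ x, ∃ x', app m (X.τ x e) = X.τ x' e') {p : Fin n₂ → F} (hp : IsAxis (q₂ := q₂) Y p)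
    (hep : polar q₂ e p = 0) : ∃ p' ∈ Y, q₂ p' ≠ 0 ∧ ∀ x, ∃ x', app m (X.τ x p) = X.τ x' p' := by
  obtain ⟨p'', hp'', hep'', -⟩ := X.exists_axis hY hYd he' hqe'
  obtain ⟨h', hh'Ω, hh'2, -, hh'p, hh'P, hh'm⟩ := X.exists_flip hp
  obtain ⟨h'', hh''Ω, -, -, -, hh''P, hh''m⟩ := X.exists_flip hp''
  set y := m * X.emb (1, h') * m⁻¹ with hy
  set k := y * X.emb (1, h'') with hk
  have hyM : y ∈ M := M.mul_mem (M.mul_mem hm (hO.le (X.emb₂_H hh'Ω))) (M.inv_mem hm)
  have hkM : k ∈ M := M.mul_mem hyM (hO.le (X.emb₂_H hh''Ω))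
  have hyP : ∀ v, (∀ u ∈ Y, polar q₂ v u = 0) → ∀ x, app y (X.τ x v) = X.τ x v := by
    intro v hv x
    rw [hy, app_mul, app_mul, show app m⁻¹ (X.τ x v) = X.τ x v by conv_lhs => rw [← hfix v hv x, app_inv_app],
      X.app_emb, app_one, hh'P v hv, hfix v hv]
  have hkP : ∀ v, (∀ u ∈ Y, polar q₂ v u = 0) → ∀ x, app k (X.τ x v) = X.τ x v := by
    intro v hv x
    rw [hk, app_mul, X.app_emb, app_one, hh''P v hv, hyP v hv]
  choose mm hmm using hmap
  have hinj : Function.Surjective mm := by
    have hlin := hmm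
    obtain ⟨ψ, hψ⟩ := exists_polar_eq_one X.nd₂ (show e' ≠ 0 from fun h => hqe' (by rw [h, QuadraticMap.map_zero]))
    let φ : (Fin n₁ → F) →ₗ[F] (Fin n₁ → F) := (X.C ψ).comp ((app m).comp ((LinearMap.flip X.τ) e))
    have hφ : ∀ x, φ x = mm x := fun x => by
      show X.C ψ (app m (X.τ x e)) = _
      rw [hlin, X.C_τ, hψ, one_smul]
    have he0 : e ≠ 0 := fun h => hqe (by rw [h, QuadraticMap.map_zero])
    have hφi : Function.Injective φ := fun x x' h => by
      have h' : app m (X.τ (x - x') e) = 0 := by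
        rw [map_sub, LinearMap.sub_apply, map_sub, hlin, hlin, ← hφ, ← hφ, h, sub_self]
      exact sub_eq_zero.1 (X.τ_inj_left he0 (app_injective m (by rw [h', map_zero])))
    intro x'
    obtain ⟨x, hx⟩ := LinearMap.surjective_of_injective hφi x'
    exact ⟨x, (hφ x).symm.trans hx⟩
  have hkE : ∀ x, app k (X.τ x e') = X.τ x e' := by
    intro x
    obtain ⟨x, rfl⟩ := hinj x
    rw [hk, app_mul, X.app_emb, app_one, hh''m e' he' (by rw [polar_comm]; exact hep''), map_neg, map_neg]
    rw [← hmm x, hy, app_mul, app_mul, app_inv_app, X.app_emb, app_one,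
      hh'm e he (by rw [polar_comm]; exact hep), map_neg, map_neg, neg_neg]
  -- a singular vector in the span of `Y^⊥` and `e'`
  let S : Submodule F (Fin n₂ → F) := OrthTools.orth q₂ Y ⊔ Submodule.span F {e'}
  have hSd : 3 ≤ Module.finrank F S := by
    have h1 := Submodule.finrank_sup_add_finrank_inf_eq (OrthTools.orth q₂ Y) (Submodule.span F {e'})
    have h3 : OrthTools.orth q₂ Y ⊓ Submodule.span F {e'} = ⊥ := by
      rw [Submodule.eq_bot_iff]
      intro v hv
      obtain ⟨t, rfl⟩ := Submodule.mem_span_singleton.1 hv.2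
      have := OrthTools.mem_orth.1 hv.1 e' he'
      rw [polar_smul_right, polar_self', smul_eq_mul, mul_eq_zero] at this
      rw [this.resolve_right (mul_ne_zero X.two hqe'), zero_smul]
    rw [h3, finrank_bot, finrank_span_singleton (fun h => hqe' (by rw [h, QuadraticMap.map_zero])),
      CfsgLib.GeomClasses.OrthTools.finrank_orth X.nd₂, Fintype.card_fin, hYd] at h1
    show 3 ≤ Module.finrank F ↥(OrthTools.orth q₂ Y ⊔ Submodule.span F {e'})
    omega
  obtain ⟨w, hw, hw0, hqw⟩ := CfsgLib.GeomClasses.OrthTools.exists_singular X.nd₂ S hSd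
  have hkw : ∀ x, app k (X.τ x w) = X.τ x w := by
    intro x
    obtain ⟨v, hv, t', ht', rfl⟩ := Submodule.mem_sup.1 hw
    obtain ⟨t, rfl⟩ := Submodule.mem_span_singleton.1 ht'
    rw [map_add, map_smul, map_add, map_smul, hkP v (fun u hu => by rw [polar_comm]; exact OrthTools.mem_orth.1 hv u hu),
      hkE]
  obtain ⟨bk, hbk, -⟩ := X.exists_emb₂ hO hkM hqw hw0 hkw
  set b' := bk * h''⁻¹ with hb'
  have hyb : y = X.emb (1, b') := by
    rw [hb', show ((1 : O q₁), bk * h''⁻¹) = (1, bk) * (1, h'')⁻¹ by simp, map_mul, map_inv, ← hbk, hk,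
      mul_inv_cancel_right]
  obtain ⟨a₀, ha₀⟩ := exists_anisotropic X.nd₁ (by rw [Fintype.card_fin]; have := X.three; omega)
  have ha00 : a₀ ≠ 0 := fun h => ha₀ (by rw [h, QuadraticMap.map_zero])
  have hb'e : app b' e' = -e' := by
    have h := hkE a₀
    rw [hk, app_mul, X.app_emb, app_one, hh''m e' he' (by rw [polar_comm]; exact hep''), map_neg, map_neg, hyb,
      X.app_emb, app_one] at h
    refine eq_neg_of_add_eq_zero_left (X.τ_inj_right ha00 ?_)
    rw [map_add]
    linear_combination (norm := module) -h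
  have hb'P : ∀ v, (∀ u ∈ Y, polar q₂ v u = 0) → app b' v = v := fun v hv => by
    have h := hyP v hv a₀
    rw [hyb, X.app_emb, app_one] at h
    refine sub_eq_zero.1 (X.τ_inj_right ha00 ?_)
    rw [map_sub, h, sub_self]
  have hbΩ : detHom q₂ b' = 1 := by
    obtain ⟨d, hd⟩ := CfsgLib.OrthOmega.exists_not_square X.two
    have : b' ∈ commutator (O q₂) := X.emb₂_mem.1 (hyb ▸ hO.omega hyM)
    rw [commutator_eq X.nd₂ X.two hd, MonoidHom.mem_ker] at this
    rw [detHom_eq X.nd₂ X.two hd, show chi q₂ 1 b' = 1 from congrArg Prod.fst this,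
      show chi q₂ d b' = 1 from congrArg Prod.snd this, mul_one, map_one]
  set PP := Y ⊓ OrthTools.orth q₂ (Submodule.span F {e'}) with hPP
  obtain ⟨u₀, hu₀, hu₀ne⟩ : ∃ u ∈ PP, app b' u ≠ u := by
    by_contra hc
    push Not at hc
    have hall : OrthTools.orth q₂ Y ⊔ PP ≤ fixS b' := sup_le
      (fun v hv => mem_fixS.2 (hb'P v fun u hu => by rw [polar_comm]; exact OrthTools.mem_orth.1 hv u hu))
      fun v hv => mem_fixS.2 (hc v hv)
    have h1 := Submodule.finrank_mono hall
    have h3 := Submodule.finrank_sup_add_finrank_inf_eq (OrthTools.orth q₂ Y) PP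
    have h4 : OrthTools.orth q₂ Y ⊓ PP = ⊥ := by
      rw [Submodule.eq_bot_iff]
      intro v hv
      exact hY.sep v hv.2.1 fun u hu => by rw [polar_comm]; exact OrthTools.mem_orth.1 hv.1 u hu
    rw [h4, finrank_bot, CfsgLib.GeomClasses.OrthTools.finrank_orth X.nd₂, Fintype.card_fin, hYd] at h3
    have h5 := finrank_inf_ge X.nd₂ Y e'
    rw [← hPP] at h5
    have hb1 := eq_one_of_fix X.nd₂ X.two hbΩ (by rw [Fintype.card_fin]; omega)
    rw [hb1, app_one] at hb'e
    refine hqe' ?_
    rw [(smul_eq_zero.1 (show (2 : F) • e' = 0 by rw [two_smul]; exact add_eq_zero_iff_eq_neg.2 hb'e)).resolve_left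
      X.two, QuadraticMap.map_zero]
  set f := u₀ - app b' u₀ with hf
  have hb2 : ∀ v, app b' (app b' v) = v := fun v => by
    have hy2 : y * y = 1 := by
      rw [hy, show m * X.emb (1, h') * m⁻¹ * (m * X.emb (1, h') * m⁻¹) = m * (X.emb (1, h') * X.emb (1, h')) * m⁻¹
        by group, ← map_mul, Prod.mk_mul_mk, one_mul, hh'2, Prod.mk_one_one, map_one]
      group
    have hb2' : b' * b' = 1 := by
      refine (X.emb_eq_one (map_one (detHom q₁)) ?_).2
      rw [show ((1 : O q₁), b' * b') = (1, b') * (1, b') by simp, map_mul, ← hyb, hy2]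
    rw [← app_mul, hb2', app_one]
  have hbf : app b' f = -f := by rw [hf, map_sub, hb2]; abel
  have hfY : f ∈ PP := by
    have hmem : app b' u₀ ∈ PP := by
      refine ⟨?_, mem_orth_one.2 ?_⟩
      · show app b' u₀ ∈ Y
        rw [← LinearMap.BilinForm.orthogonal_orthogonal X.nd₂ (polarBilin_isRefl X.nd₂) Y,
          LinearMap.BilinForm.mem_orthogonal_iff]
        intro v hv
        rw [LinearMap.BilinForm.mem_orthogonal_iff] at hv
        show polar q₂ v (app b' u₀) = 0
        rw [← hb'P v (fun u hu => by rw [polar_comm]; exact hv u hu), polar_app, polar_comm]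
        exact hv u₀ hu₀.1
      · rw [← neg_neg e', ← hb'e, polar_neg_left, polar_app, mem_orth_one.1 hu₀.2, neg_zero]
    exact Submodule.sub_mem _ hu₀ hmem
  have hf0 : f ≠ 0 := sub_ne_zero.2 (Ne.symm hu₀ne)
  obtain ⟨p', hp', hpne, hline⟩ : ∃ p', p' ∈ PP ∧ p' ≠ 0 ∧ ∀ v ∈ PP, polar q₂ f v = 0 → ∃ t : F, v = t • p' := by
    have h5 := finrank_inf_ge X.nd₂ PP f
    have h6 := finrank_inf_ge X.nd₂ Y e'
    rw [← hPP] at h6
    have hlt : PP ⊓ OrthTools.orth q₂ (Submodule.span F {f}) < PP := by
      refine lt_of_le_not_ge inf_le_left fun hle => ?_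
      exact hf0 ((nondeg_inf X.two hY he' hqe').sep f hfY fun v hv => mem_orth_one.1 (hle hv).2)
    have h7 := Submodule.finrank_lt_finrank_of_lt hlt
    have h8 : Module.finrank F PP < 3 := by
      have : PP < Y := lt_of_le_not_ge inf_le_left fun hle => by
        have := mem_orth_one.1 (hle he').2
        rw [polar_self', mul_eq_zero] at this
        exact hqe' (this.resolve_left X.two)
      rw [← hYd]
      exact Submodule.finrank_lt_finrank_of_lt this
    obtain ⟨p', hp'0, hp'⟩ := finrank_eq_one_iff'.1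
      (show Module.finrank F ↥(PP ⊓ OrthTools.orth q₂ (Submodule.span F {f})) = 1 by omega)
    exact ⟨p', p'.2.1, fun h => hp'0 (Subtype.ext h), fun v hv hfv => by
      obtain ⟨t, ht⟩ := hp' ⟨v, hv, mem_orth_one.2 hfv⟩
      exact ⟨t, (congrArg Subtype.val ht).symm⟩⟩
  have himg : ∀ x, ∃ x', app m (X.τ x p) = X.τ x' p' := by
    intro x
    set z := app m (X.τ x p) with hz
    have hyz : app y z = z := by rw [hz, hy, app_mul, app_mul, app_inv_app, X.app_emb, app_one, hh'p]
    refine X.mem_line (S := OrthTools.orth q₂ Y ⊔ (Submodule.span F {e'} ⊔ Submodule.span F {f})) ?_ ?_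
    · intro φ hφ
      obtain ⟨v, hv, r, hr, rfl⟩ := Submodule.mem_sup.1 hφ
      obtain ⟨s', hs', t', ht', rfl⟩ := Submodule.mem_sup.1 hr
      obtain ⟨s, rfl⟩ := Submodule.mem_span_singleton.1 hs'
      obtain ⟨t, rfl⟩ := Submodule.mem_span_singleton.1 ht'
      have hv' : ∀ u ∈ Y, polar q₂ v u = 0 := fun u hu => by rw [polar_comm]; exact OrthTools.mem_orth.1 hv u hu
      have c1 : X.C v z = 0 := eq_zero_of_polar X.nd₁ fun r => by
        rw [X.polar_C, hz, ← hfix v hv' r, polar_app, X.polar_τ, polar_comm (f := ⇑q₂) p v, hv' p hp.1, mul_zero]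
      have c2 : X.C e' z = 0 := eq_zero_of_polar X.nd₁ fun r => by
        obtain ⟨r, rfl⟩ := hinj r
        rw [X.polar_C, hz, ← hmm r, polar_app, X.polar_τ, polar_comm (f := ⇑q₂) p e, hep,
          mul_zero]
      have c3 : X.C f z = 0 := eq_zero_of_polar X.nd₁ fun r => by
        have h1 : polar q z (X.τ r f) = -polar q z (X.τ r f) := by
          conv_lhs => rw [← hyz, hyb, ← neg_neg f, ← hbf, map_neg]
          rw [polar_neg_right, ← app_one (Q := q₁) r, ← X.app_emb (1, b'), polar_app, app_one]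
        rw [X.polar_C]
        exact (mul_eq_zero.1 (show (2 : F) * polar q z (X.τ r f) = 0 by linear_combination h1)).resolve_left X.two
      rw [X.C_add, X.C_add, X.C_smul, X.C_smul, c1, c2, c3, smul_zero, smul_zero, add_zero, add_zero]
    · intro v hv
      refine hline v ⟨?_, mem_orth_one.2 (hv e' (Submodule.mem_sup_right (Submodule.mem_sup_left
        (Submodule.mem_span_singleton_self e'))))⟩ (hv f (Submodule.mem_sup_right (Submodule.mem_sup_right
        (Submodule.mem_span_singleton_self f))))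
      show v ∈ Y
      rw [← LinearMap.BilinForm.orthogonal_orthogonal X.nd₂ (polarBilin_isRefl X.nd₂) Y,
        LinearMap.BilinForm.mem_orthogonal_iff]
      exact fun u hu => hv u (Submodule.mem_sup_left hu)
  refine ⟨p', hp'.1, fun h0 => ?_, himg⟩
  obtain ⟨x', hx'⟩ := himg a₀
  have h := Q_app m (X.τ a₀ p)
  rw [hx', X.q_τ, X.q_τ, h0, mul_zero] at h
  exact mul_ne_zero (mul_ne_zero X.two ha₀) hp.2.1 h.symm

end elliptic

end Setting

end CfsgLib.TensorMax63
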