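import Cfsg.Agent.Lib.TensorMax63.Root

/-!
An element of a proper overgroup of the tensor stabiliser which maps one singular slice to a slice preserves
the decomposition.
-/

set_option autoImplicit false
set_option linter.unusedSectionVars false
set_option linter.unusedSimpArgs false

namespace CfsgLib.TensorMax63

open Matrix QuadraticMap CfsgLib.Orth
open CfsgLib.GeomClasses (OrthTools.orth OrthTools.mem_orth)

section

variable {κ : Type} [Fintype κ] [DecidableEq κ] {F : Type*} [Field F] [Fintype F] [DecidableEq F]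
  {p : QuadraticForm F (κ → F)}

theorem eich_mem_commutator (hp : p.polarBilin.Nondegenerate) (h2 : (2 : F) ≠ 0) {u a : κ → F} (hu : p u = 0)
    (ha : polar p u a = 0) : eich p u a ∈ commutator (O p) := by
  obtain ⟨d, hd⟩ := CfsgLib.OrthOmega.exists_not_square h2
  have hh : polar p u ((2 : F)⁻¹ • a) = 0 := by rw [polar_smul_right, ha, smul_zero]
  have e : eich p u a = eich p u ((2 : F)⁻¹ • a) * eich p u ((2 : F)⁻¹ • a) := by
    rw [eich_add hu hh hh, ← two_smul F, smul_inv_smul₀ h2]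
  rw [commutator_eq hp h2 hd, MonoidHom.mem_ker, e, map_mul]
  exact Prod.ext (Int.units_mul_self _) (Int.units_mul_self _)

theorem chi_negO (hp : p.polarBilin.Nondegenerate) (h2 : (2 : F) ≠ 0) (hodd : Odd (Fintype.card κ)) {d : F}
    (hd : ¬ IsSquare d) : ∃ c : F, c ≠ 0 ∧ chiPair p d (negO p) = cls c := by
  classical
  have h := detHom_eq hp h2 hd (negO p)
  rw [detHom_negO p hodd] at h
  have hd0 : d ≠ 0 := fun h0 => hd (h0 ▸ IsSquare.zero)
  rcases Int.units_eq_one_or (chi p 1 (negO p)) with h1 | h1 <;>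
    rcases Int.units_eq_one_or (chi p d (negO p)) with h3 | h3
  · exfalso
    rw [h1, h3] at h
    have := congrArg Units.val h
    simp at this
    exact h2 (by linear_combination -this)
  · exact ⟨d, hd0, Prod.ext (by simp [chiPair, h1, cls, hd]) (by simp [chiPair, h3, cls, hd])⟩
  · exact ⟨1, one_ne_zero, Prod.ext (by simp [chiPair, h1, cls]) (by simp [chiPair, h3, cls])⟩
  · exfalso
    rw [h1, h3] at h
    have := congrArg Units.val h
    simp at this
    exact h2 (by linear_combination -this)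

end

variable {ι : Type} [Fintype ι] [DecidableEq ι] {F : Type*} [Field F] [Fintype F] [DecidableEq F] {n₁ n₂ : ℕ}
  {q : QuadraticForm F (ι → F)} {q₁ : QuadraticForm F (Fin n₁ → F)} {q₂ : QuadraticForm F (Fin n₂ → F)}
  (X : Setting q q₁ q₂)

namespace Setting

/-- Contraction of the left factor. -/
noncomputable def D (a : Fin n₁ → F) : (ι → F) →ₗ[F] (Fin n₂ → F) :=
  (toVec X.nd₂).comp (LinearMap.compl₂ q.polarBilin (X.τ a))

theorem polar_D (a : Fin n₁ → F) (z : ι → F) (φ : Fin n₂ → F) :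
    polar q₂ (X.D a z) φ = polar q z (X.τ a φ) := by
  rw [D, LinearMap.comp_apply, polar_toVec]
  rfl

theorem app_R {w b : Fin n₂ → F} (hw : q₂ w = 0) (hb : polar q₂ w b = 0) (z : ι → F) :
    app (X.emb (1, eich q₂ w b)) z =
      z + X.τ (X.C w z) b + X.τ (-(X.C b z) - q₂ b • X.C w z) w := by
  have h : app (X.emb (1, eich q₂ w b)) = LinearMap.id + ((LinearMap.flip X.τ) b).comp (X.C w) +
      ((LinearMap.flip X.τ) w).comp (-(X.C b) - q₂ b • X.C w) := X.ext_τ fun a c => by
    simp only [X.app_emb, app_one, app_eich hw hb, LinearMap.add_apply, LinearMap.id_apply, LinearMap.comp_apply,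
      LinearMap.flip_apply, LinearMap.sub_apply, LinearMap.neg_apply, LinearMap.smul_apply, X.C_τ, map_add,
      map_smul, map_sub, map_neg]
    module
  rw [h]
  rfl

/-- The isometries fixing a slice which are the identity on its orthogonal modulo the slice. -/
def InQ (w : Fin n₂ → F) (y : O q) : Prop :=
  (∀ x, app y (X.τ x w) = X.τ x w) ∧ ∀ z, X.C w z = 0 → ∃ x, app y z - z = X.τ x w

theorem C_app_fix {w : Fin n₂ → F} {y : O q} (hy : ∀ x, app y (X.τ x w) = X.τ x w) (z : ι → F) :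
    X.C w (app y z) = X.C w z := by
  refine ext_polar X.nd₁ fun a => ?_
  rw [X.polar_C, X.polar_C]
  conv_lhs => rw [← hy a, polar_app]

theorem C_map {w v : Fin n₂ → F} {g : O q} {φ : (Fin n₁ → F) →ₗ[F] (Fin n₁ → F)}
    (hg : ∀ x, app g (X.τ x w) = X.τ (φ x) v) (z : ι → F) (a : Fin n₁ → F) :
    polar q₁ (X.C v (app g z)) (φ a) = polar q₁ (X.C w z) a := by
  rw [X.polar_C, X.polar_C, ← hg, polar_app]

theorem InQ.conj {w v : Fin n₂ → F} {g : O q} {φ : (Fin n₁ → F) →ₗ[F] (Fin n₁ → F)}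
    (hφ : Function.Surjective φ) (hg : ∀ x, app g (X.τ x w) = X.τ (φ x) v) {y : O q} (hy : X.InQ w y) :
    X.InQ v (g * y * g⁻¹) := by
  refine ⟨fun x => ?_, fun z hz => ?_⟩
  · obtain ⟨x, rfl⟩ := hφ x
    rw [app_mul, app_mul, ← hg, app_inv_app, hy.1]
  · have hz' : X.C w (app g⁻¹ z) = 0 := eq_zero_of_polar X.nd₁ fun a => by
      rw [← X.C_map hg, app_app_inv, hz, polar_zero_left]
    obtain ⟨x, hx⟩ := hy.2 _ hz'
    refine ⟨φ x, ?_⟩
    rw [← hg, ← hx, map_sub, app_app_inv, app_mul, app_mul]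

theorem InQ.inv {w : Fin n₂ → F} {y : O q} (hy : ∀ x, app y (X.τ x w) = X.τ x w) (x : Fin n₁ → F) :
    app y⁻¹ (X.τ x w) = X.τ x w := by
  conv_lhs => rw [← hy x, app_inv_app]

variable {M : Subgroup (O q)}

theorem InQ.comm (hO : X.Over M) {w w' : Fin n₂ → F} (P : Hyp q₂ w w') {y y' : O q} (hyM : y ∈ M)
    (hyM' : y' ∈ M) (hy : X.InQ w y) (hy' : X.InQ w y') : y * y' = y' * y := by
  set k := y * y' * (y' * y)⁻¹ with hk
  suffices k = 1 by rwa [mul_inv_eq_one] at this
  refine Over.inZ_eq_one X hO P (M.mul_mem (M.mul_mem hyM hyM') (M.inv_mem (M.mul_mem hyM' hyM))) ⟨fun x => ?_, ?_⟩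
  · rw [hk, _root_.mul_inv_rev, app_mul, app_mul, app_mul, InQ.inv X hy'.1, InQ.inv X hy.1, hy'.1, hy.1]
  intro z
  obtain ⟨z, rfl⟩ : ∃ t, app (y' * y) t = z := ⟨app (y' * y)⁻¹ z, app_app_inv _ z⟩
  obtain ⟨r, hr⟩ := hy.2 (app y' z - z) (by rw [map_sub, X.C_app_fix hy'.1, sub_self])
  obtain ⟨r', hr'⟩ := hy'.2 (app y z - z) (by rw [map_sub, X.C_app_fix hy.1, sub_self])
  refine ⟨r - r', ?_⟩
  rw [hk, ← app_mul, inv_mul_cancel_right, app_mul, app_mul, map_sub, LinearMap.sub_apply, ← hr, ← hr', map_sub,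
    map_sub]
  abel

/-- The middle part of an element at the partner slice. -/
noncomputable def mov (y : O q) (w' : Fin n₂ → F) : (Fin n₁ → F) →ₗ[F] (ι → F) :=
  (app y - LinearMap.id).comp ((LinearMap.flip X.τ) w')

theorem mov_apply (y : O q) (w' : Fin n₂ → F) (x : Fin n₁ → F) :
    X.mov y w' x = app y (X.τ x w') - X.τ x w' := rfl

theorem C_mov {w w' : Fin n₂ → F} {y : O q} (hy : ∀ x, app y (X.τ x w) = X.τ x w) (x : Fin n₁ → F) :
    X.C w (X.mov y w' x) = 0 := by
  rw [mov_apply, map_sub, X.C_app_fix hy, sub_self]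

theorem symm_of_comm {w w' : Fin n₂ → F} {y y' : O q} (hy : X.InQ w y) (hy' : X.InQ w y')
    (hc : y * y' = y' * y) (x x'' : Fin n₁ → F) :
    polar q (X.mov y' w' x) (X.mov y w' x'') = polar q (X.mov y w' x) (X.mov y' w' x'') := by
  have key : ∀ {y : O q}, X.InQ w y → ∀ v, X.C w v = 0 →
      polar q (app y v - v) (X.τ x'' w') = -polar q v (X.mov y w' x'') := by
    intro y hy v hv
    obtain ⟨s, hs⟩ := hy.2 v hv
    have h := polar_app y v (X.τ x'' w')
    have e : app y v = v + (app y v - v) := by abel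
    have e' : app y (X.τ x'' w') = X.τ x'' w' + X.mov y w' x'' := by rw [mov_apply]; abel
    have h0 : polar q (X.τ s w) (X.mov y w' x'') = 0 := by
      rw [polar_comm, ← X.polar_C, X.C_mov hy.1, polar_zero_left]
    rw [e, e', polar_add_left, polar_add_right, polar_add_right, hs, h0, ← hs] at h
    linear_combination h
  have h : app y (X.mov y' w' x) - X.mov y' w' x = app y' (X.mov y w' x) - X.mov y w' x := by
    have h1 := congrArg (fun g => app g (X.τ x w')) hc
    simp only [app_mul] at h1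
    rw [mov_apply, mov_apply, map_sub, map_sub, h1]
    abel
  have : polar q (app y (X.mov y' w' x) - X.mov y' w' x) (X.τ x'' w') =
      polar q (app y' (X.mov y w' x) - X.mov y w' x) (X.τ x'' w') := by rw [h]
  rw [key hy _ (X.C_mov hy'.1 x), key hy' _ (X.C_mov hy.1 x)] at this
  exact neg_injective this

theorem eq_slice {w w' : Fin n₂ → F} (P : Hyp q₂ w w') {v : ι → F} (hw : X.C w v = 0)
    (hmid : ∀ b ∈ mid q₂ w w', X.C b v = 0) : v = X.τ (X.C w' v) w := by
  refine sub_eq_zero.1 (X.eq_zero fun φ => ?_)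
  have h := hmid _ (P.proj_mem φ)
  rw [X.C_sub, X.C_sub, X.C_smul, X.C_smul, hw, smul_zero, sub_zero, sub_eq_zero] at h
  rw [map_sub, X.C_τ, h, sub_self]

theorem InQ.scalar (hO : X.Over M) {w w' : Fin n₂ → F} (P : Hyp q₂ w w') {y : O q} (hyM : y ∈ M)
    (hy : X.InQ w y) {s : Fin n₂ → F} (hs : s ∈ mid q₂ w w') (hqs : q₂ s = 0) (hs0 : s ≠ 0) :
    ∃ l : F, ∀ x, X.C s (X.mov y w' x) = l • x := by
  set Y := X.mov y w'
  obtain ⟨hws, hw's⟩ := mem_mid.1 hs
  -- self-adjointness
  have hadj : ∀ b ∈ mid q₂ w w', ∀ x x'', polar q₁ (X.C b (Y x)) x'' = polar q₁ x (X.C b (Y x'')) := by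
    intro b hb x x''
    obtain ⟨hwb, hw'b⟩ := mem_mid.1 hb
    set r := X.emb (1, eich q₂ w b)
    have hr : r ∈ M := hO.le (X.emb₂_H (eich_mem_commutator X.nd₂ X.two P.q₁ hwb))
    have hrQ : X.InQ w r := by
      refine ⟨fun x => ?_, fun z hz => ⟨-(X.C b z), ?_⟩⟩
      · rw [X.app_R P.q₁ hwb, X.C_τ, X.C_τ, P.self₁, hwb]
        simp
      · rw [X.app_R P.q₁ hwb, hz]
        simp
    have hY' : ∀ x, X.mov r w' x = X.τ x b + X.τ (-(q₂ b • x)) w := by
      intro x
      rw [mov_apply, X.app_R P.q₁ hwb, X.C_τ, X.C_τ, P.pair', hw'b]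
      simp
      abel
    have h := X.symm_of_comm (w' := w') hy hrQ (InQ.comm X hO P hyM hr hy hrQ) x x''
    have e0 : ∀ x a, polar q (X.τ a w) (Y x) = 0 := fun x a => by
      rw [polar_comm, ← X.polar_C, X.C_mov hy.1, polar_zero_left]
    rw [hY', hY', polar_add_left, polar_add_right, e0, polar_comm (f := ⇑q) (Y x) (X.τ (-(q₂ b • x'')) w), e0,
      add_zero, add_zero, polar_comm (f := ⇑q) (X.τ x b), ← X.polar_C, ← X.polar_C] at h
    rw [polar_comm (f := ⇑q₁) x]
    exact h.symm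
  obtain ⟨S, hS⟩ : ∃ S : (Fin n₁ → F) →ₗ[F] (Fin n₁ → F), ∀ x, X.C s (Y x) = S x :=
    ⟨(X.C s).comp Y, fun _ => rfl⟩
  have hSa : ∀ x x'', polar q₁ (S x) x'' = polar q₁ x (S x'') := fun x x'' => by
    rw [← hS, ← hS]; exact hadj s hs x x''
  have hcard : 3 ≤ Fintype.card (Fin n₁) := by rw [Fintype.card_fin]; exact X.three
  suffices hc : ∀ (g : O q₁) x, S (app g (S (app g⁻¹ x))) = app g (S (app g⁻¹ (S x))) by
    obtain ⟨l, hl⟩ := scalar_of_comm_conj X.nd₁ X.two (X.big.imp id fun h => by rw [Fintype.card_fin]; exact h)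
      hcard S hSa hc
    exact ⟨l, fun x => by rw [hS, hl]⟩
  intro g
  -- a completion of `g` fixing the pair and the line of `s`
  obtain ⟨r, hr, hqr, hsr⟩ := exists_partner' (P.nondeg_mid X.nd₂) hs hs0 hqs
  obtain ⟨hwr, hw'r⟩ := mem_mid.1 hr
  let St : Subgroup (O q₂) :=
    { carrier := {u | app u w = w ∧ app u w' = w' ∧ ∃ l : F, l ≠ 0 ∧ app u s = l • s}
      one_mem' := ⟨app_one w, app_one w', 1, one_ne_zero, by rw [app_one, one_smul]⟩
      mul_mem' := fun {u v} hu hv => by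
        obtain ⟨h1, h3, l, hl0, hl⟩ := hu
        obtain ⟨k1, k3, k, hk0, hk⟩ := hv
        exact ⟨by rw [app_mul, k1, h1], by rw [app_mul, k3, h3], k * l, mul_ne_zero hk0 hl0,
          by rw [app_mul, hk, map_smul, hl, smul_smul]⟩
      inv_mem' := fun {u} hu => by
        obtain ⟨h1, h3, l, hl0, hl⟩ := hu
        refine ⟨by conv_lhs => rw [← h1, app_inv_app], by conv_lhs => rw [← h3, app_inv_app], l⁻¹,
          inv_ne_zero hl0, ?_⟩
        refine app_injective u ?_
        rw [app_app_inv, map_smul, hl, smul_smul, inv_mul_cancel₀ hl0, one_smul] }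
  have hSt : ∀ d : F, ¬ IsSquare d → ∀ y, ∃ u ∈ St, chiPair q₂ d u = y := by
    intro d hd
    have hd0 : d ≠ 0 := fun h => hd (h ▸ IsSquare.zero)
    obtain ⟨e, he, hse, hre, hqe⟩ : ∃ e ∈ mid q₂ w w', polar q₂ s e = 0 ∧ polar q₂ r e = 0 ∧ q₂ e ≠ 0 := by
      have h1 := X.exists_mid_ne_bot P
      have hd1 : q₂ (s + r) ≠ 0 := by rw [QuadraticMap.map_add ⇑q₂, hqs, hqr, hsr]; simp
      have hd3 : q₂ (s - r) ≠ 0 := by
        rw [sub_eq_add_neg, QuadraticMap.map_add ⇑q₂, QuadraticMap.map_neg, polar_neg_right, hqs, hqr, hsr]; simp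
      have hN := nondeg_inf X.two (P.nondeg_mid X.nd₂) (Submodule.add_mem _ hs hr) hd1
      have hmem : s - r ∈ mid q₂ w w' ⊓ OrthTools.orth q₂ (Submodule.span F {s + r}) := by
        refine ⟨Submodule.sub_mem _ hs hr, mem_orth_one.2 ?_⟩
        rw [polar_add_left, polar_sub_right, polar_sub_right, polar_self', polar_self', hqs, hqr, hsr,
          polar_comm (f := ⇑q₂) r s, hsr]
        ring
      obtain ⟨e, he, hqe⟩ := exists_aniso (nondeg_inf X.two hN hmem hd3) fun h => by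
        have i1 := finrank_inf_ge X.nd₂ (mid q₂ w w') (s + r)
        have i3 := finrank_inf_ge X.nd₂ (mid q₂ w w' ⊓ OrthTools.orth q₂ (Submodule.span F {s + r})) (s - r)
        rw [h, finrank_bot] at i3
        omega
      have e1 := mem_orth_one.1 he.1.2
      have e3 := mem_orth_one.1 he.2
      rw [polar_add_left] at e1
      rw [polar_sub_left] at e3
      refine ⟨e, he.1.1, ?_, ?_, hqe⟩
      · exact (mul_eq_zero.1 (show (2 : F) * polar q₂ s e = 0 by linear_combination e1 + e3)).resolve_left X.two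
      · exact (mul_eq_zero.1 (show (2 : F) * polar q₂ r e = 0 by linear_combination e1 - e3)).resolve_left X.two
    obtain ⟨hwe, hw'e⟩ := mem_mid.1 he
    have hre' : refl q₂ e ∈ St :=
      ⟨app_refl_of_ortho hwe, app_refl_of_ortho hw'e, 1, one_ne_zero, by rw [one_smul, app_refl_of_ortho hse]⟩
    have hq1 : q₂ (s + r) = 1 := by rw [QuadraticMap.map_add ⇑q₂, hqs, hqr, hsr]; simp
    have hqd : q₂ (s + d • r) = d := by
      rw [QuadraticMap.map_add ⇑q₂, QuadraticMap.map_smul, hqs, hqr, polar_smul_right, hsr]; simp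
    have hss : polar q₂ s s = 0 := by rw [polar_self', hqs, mul_zero]
    have hrr : polar q₂ r r = 0 := by rw [polar_self', hqr, mul_zero]
    have htorus : refl q₂ (s + r) * refl q₂ (s + d • r) ∈ St := by
      refine ⟨?_, ?_, d, hd0, ?_⟩
      · rw [app_mul, show app (refl q₂ (s + d • r)) w = w from
            app_refl_of_ortho (by rw [polar_add_right, polar_smul_right, hws, hwr, smul_zero, add_zero]),
          app_refl_of_ortho (by rw [polar_add_right, hws, hwr, add_zero])]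
      · rw [app_mul, show app (refl q₂ (s + d • r)) w' = w' from
            app_refl_of_ortho (by rw [polar_add_right, polar_smul_right, hw's, hw'r, smul_zero, add_zero]),
          app_refl_of_ortho (by rw [polar_add_right, hw's, hw'r, add_zero])]
      · have e2 : app (refl q₂ (s + d • r)) s = -(d • r) := by
          rw [app_refl, polar_add_right, polar_smul_right, hss, hsr, hqd, smul_eq_mul]
          match_scalars <;> field_simp <;> ring
        have e3 : app (refl q₂ (s + r)) r = -s := by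
          rw [app_refl, polar_add_right, hrr, polar_comm (f := ⇑q₂) r s, hsr, hq1]
          module
        rw [app_mul, e2, map_neg, map_smul, e3, smul_neg, neg_neg]
    have c1 : chiPair q₂ d (refl q₂ (s + r) * refl q₂ (s + d • r)) = (-1, -1) := by
      rw [map_mul, chiPair_refl X.two hd (by rw [hq1]; exact one_ne_zero),
        chiPair_refl X.two hd (by rw [hqd]; exact hd0), if_pos (by rw [hq1]; exact IsSquare.one),
        if_neg (by rw [hqd]; exact hd)]
      rfl
    have c3 := chiPair_refl (Q := q₂) X.two hd hqe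
    rintro ⟨a, b⟩
    rcases Int.units_eq_one_or a with rfl | rfl <;> rcases Int.units_eq_one_or b with rfl | rfl
    · exact ⟨1, St.one_mem, map_one _⟩
    · by_cases hsq : IsSquare (q₂ e)
      · exact ⟨_, St.mul_mem hre' htorus, by rw [map_mul, c3, if_pos hsq, c1]; rfl⟩
      · exact ⟨_, hre', by rw [c3, if_neg hsq]⟩
    · by_cases hsq : IsSquare (q₂ e)
      · exact ⟨_, hre', by rw [c3, if_pos hsq]⟩
      · exact ⟨_, St.mul_mem hre' htorus, by rw [map_mul, c3, if_neg hsq, c1]; rfl⟩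
    · exact ⟨_, htorus, c1⟩
  obtain ⟨u, ⟨huw, huw', l, hl0, hus⟩, hh⟩ := X.compensate St hSt g
  set h₀ := X.emb (g, u)
  -- all three translates
  have hsym : ∀ k : O q, k ∈ M → app k = app k → (∀ x, app k (X.τ x w) = X.τ x w) →
      (∀ x, app k (X.τ x w') = X.τ x w') → ∀ x x'',
      polar q (app h₀ (app k (Y (app g⁻¹ x)))) (Y x'') = polar q (Y x) (app h₀ (app k (Y (app g⁻¹ x'')))) := by
    intro k hk _ hkw hkw' x x''
    set h := h₀ * k
    have hmap : ∀ x, app h (X.τ x w) = X.τ (app g x) w := fun x => by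
      rw [app_mul, hkw, X.app_emb, huw]
    have hyh : X.InQ w (h * y * h⁻¹) :=
      InQ.conj X (φ := app g) (fun x => ⟨app g⁻¹ x, app_app_inv g x⟩) hmap hy
    have hhM : h * y * h⁻¹ ∈ M := M.mul_mem (M.mul_mem (M.mul_mem (hO.le hh) hk) hyM) (M.inv_mem (M.mul_mem (hO.le hh) hk))
    have e : ∀ x, X.mov (h * y * h⁻¹) w' x = app h₀ (app k (Y (app g⁻¹ x))) := by
      intro x
      have hw'' : app h (X.τ (app g⁻¹ x) w') = X.τ x w' := by
        rw [app_mul, hkw', X.app_emb, huw', app_app_inv]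
      show _ = app h₀ (app k (app y (X.τ (app g⁻¹ x) w') - X.τ (app g⁻¹ x) w'))
      rw [mov_apply, ← app_mul, map_sub, hw'', app_mul, app_mul]
      conv_lhs => rw [← hw'', app_inv_app, hw'']
    have hsy := X.symm_of_comm (w' := w') hy hyh (InQ.comm X hO P hyM hhM hy hyh) x x''
    rw [e, e] at hsy
    exact hsy
  obtain ⟨c, hc, hqc, hsc⟩ : ∃ c ∈ mid q₂ w w', q₂ c ≠ 0 ∧ polar q₂ s c = 0 := by
    have h1 := X.exists_mid_ne_bot P
    by_contra hcon
    push Not at hcon
    -- otherwise the complement of `s` is totally singular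
    obtain ⟨c, hc, hqc⟩ := exists_aniso (P.nondeg_mid X.nd₂) h1.2
    have := hcon
    obtain ⟨e, he, hse, hqe⟩ : ∃ e ∈ mid q₂ w w', polar q₂ s e = 0 ∧ q₂ e ≠ 0 := by
      have hd1 : q₂ (s + r) ≠ 0 := by rw [QuadraticMap.map_add ⇑q₂, hqs, hqr, hsr]; simp
      have hd3 : q₂ (s - r) ≠ 0 := by
        rw [sub_eq_add_neg, QuadraticMap.map_add ⇑q₂, QuadraticMap.map_neg, polar_neg_right, hqs, hqr, hsr]; simp
      have hN := nondeg_inf X.two (P.nondeg_mid X.nd₂) (Submodule.add_mem _ hs hr) hd1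
      have hmem : s - r ∈ mid q₂ w w' ⊓ OrthTools.orth q₂ (Submodule.span F {s + r}) := by
        refine ⟨Submodule.sub_mem _ hs hr, mem_orth_one.2 ?_⟩
        rw [polar_add_left, polar_sub_right, polar_sub_right, polar_self', polar_self', hqs, hqr, hsr,
          polar_comm (f := ⇑q₂) r s, hsr]
        ring
      obtain ⟨e, he, hqe⟩ := exists_aniso (nondeg_inf X.two hN hmem hd3) fun h => by
        have i1 := finrank_inf_ge X.nd₂ (mid q₂ w w') (s + r)
        have i3 := finrank_inf_ge X.nd₂ (mid q₂ w w' ⊓ OrthTools.orth q₂ (Submodule.span F {s + r})) (s - r)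
        rw [h, finrank_bot] at i3
        omega
      have e1 := mem_orth_one.1 he.1.2
      have e3 := mem_orth_one.1 he.2
      rw [polar_add_left] at e1
      rw [polar_sub_left] at e3
      exact ⟨e, he.1.1, (mul_eq_zero.1 (show (2 : F) * polar q₂ s e = 0 by linear_combination e1 + e3)).resolve_left
        X.two, hqe⟩
    exact hcon e he hqe hse
  obtain ⟨hwc, hw'c⟩ := mem_mid.1 hc
  have hRmem : ∀ t : F, X.emb (1, eich q₂ s (t • c)) ∈ M := fun t =>
    hO.le (X.emb₂_H (eich_mem_commutator X.nd₂ X.two hqs (by rw [polar_smul_right, hsc, smul_zero])))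
  have hRfix : ∀ t : F, ∀ v, polar q₂ s v = 0 → polar q₂ c v = 0 → ∀ x,
      app (X.emb (1, eich q₂ s (t • c))) (X.τ x v) = X.τ x v := by
    intro t v h1 h3 x
    rw [X.app_emb, app_one, app_eich hqs (by rw [polar_smul_right, hsc, smul_zero]), polar_comm (f := ⇑q₂) v s, h1,
      polar_smul_right, polar_comm (f := ⇑q₂) v c, h3]
    simp
  have hsum : ∀ t : F, ∀ x x'',
      polar q (app h₀ (app (X.emb (1, eich q₂ s (t • c))) (Y (app g⁻¹ x)))) (Y x'') =
        polar q (Y x) (app h₀ (app (X.emb (1, eich q₂ s (t • c))) (Y (app g⁻¹ x'')))) := fun t =>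
    hsym _ (hRmem t) rfl (hRfix t w (by rw [polar_comm]; exact hws) (by rw [polar_comm]; exact hwc))
      (hRfix t w' (by rw [polar_comm]; exact hw's) (by rw [polar_comm]; exact hw'c))
  intro x
  refine ext_polar X.nd₁ fun x'' => ?_
  have hlin : ∀ z, app h₀ (app (X.emb (1, eich q₂ s ((1 : F) • c))) z) +
      app h₀ (app (X.emb (1, eich q₂ s ((-1 : F) • c))) z) -
      (2 : F) • app h₀ (app (X.emb (1, eich q₂ s ((0 : F) • c))) z) =
      (-(2 * q₂ c) * l) • X.τ (app g (X.C s z)) s := by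
    intro z
    rw [← map_add, ← map_smul, ← map_sub, X.app_R hqs (by rw [polar_smul_right, hsc, smul_zero]),
      X.app_R hqs (by rw [polar_smul_right, hsc, smul_zero]),
      X.app_R hqs (by rw [polar_smul_right, hsc, smul_zero]), one_smul, neg_one_smul, zero_smul]
    have e : z + X.τ (X.C s z) c + X.τ (-(X.C c z) - q₂ c • X.C s z) s +
        (z + X.τ (X.C s z) (-c) + X.τ (-(X.C (-c) z) - q₂ (-c) • X.C s z) s) -
        (2 : F) • (z + X.τ (X.C s z) 0 + X.τ (-(X.C 0 z) - q₂ 0 • X.C s z) s) =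
        (-(2 * q₂ c)) • X.τ (X.C s z) s := by
      rw [← neg_one_smul F c, X.C_smul, QuadraticMap.map_smul, X.C_zero, QuadraticMap.map_zero, neg_one_smul]
      simp only [map_neg, map_sub, map_smul, LinearMap.sub_apply, LinearMap.neg_apply, LinearMap.smul_apply,
        map_zero, LinearMap.zero_apply, smul_eq_mul, zero_smul, neg_zero, sub_zero, neg_smul, one_smul,
        neg_mul, mul_neg, one_mul, neg_neg]
      module
    rw [e, map_smul, X.app_emb, hus, map_smul, smul_smul]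
  have h1 := hsum 1 x x''
  have h3 := hsum (-1) x x''
  have h0 := hsum 0 x x''
  have hL := congrArg (fun z => polar q z (Y x'')) (hlin (Y (app g⁻¹ x)))
  have hR := congrArg (fun z => polar q (Y x) z) (hlin (Y (app g⁻¹ x'')))
  simp only [polar_add_left, polar_sub_left, polar_smul_left, polar_add_right, polar_sub_right,
    polar_smul_right, smul_eq_mul] at hL hR
  rw [polar_comm (f := ⇑q) (X.τ _ s), ← X.polar_C, hS, hS] at hL
  rw [← X.polar_C, hS, hS] at hR
  have hk : -(2 * q₂ c) * l ≠ 0 := mul_ne_zero (neg_ne_zero.2 (mul_ne_zero X.two hqc)) hl0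
  have key : polar q₁ (S x'') (app g (S (app g⁻¹ x))) = polar q₁ (S x) (app g (S (app g⁻¹ x''))) :=
    mul_left_cancel₀ hk (by linear_combination -hL + hR + h1 + h3 - 2 * h0)
  have hg : ∀ v, polar q₁ (S x) (app g (S (app g⁻¹ v))) = polar q₁ (app g (S (app g⁻¹ (S x)))) v := fun v => by
    conv_rhs => rw [← app_app_inv g v, polar_app, hSa, ← polar_app g, app_app_inv]
  rw [hSa, polar_comm (f := ⇑q₁) (app g (S (app g⁻¹ x)))]
  exact key.trans (hg x'')

theorem InQ.exists_eich (hO : X.Over M) {w w' : Fin n₂ → F} (P : Hyp q₂ w w') {y : O q} (hyM : y ∈ M)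
    (hy : X.InQ w y) : ∃ b ∈ mid q₂ w w', y = X.emb (1, eich q₂ w b) := by
  obtain ⟨a₀, ha₀⟩ := exists_anisotropic X.nd₁ (by rw [Fintype.card_fin]; have := X.three; omega)
  have ha2 : polar q₁ a₀ a₀ ≠ 0 := by rw [polar_self']; exact mul_ne_zero X.two ha₀
  set Y := X.mov y w'
  let μ : (Fin n₂ → F) →ₗ[F] F := (polar q₁ a₀ a₀)⁻¹ • (q.polarBilin (Y a₀)).comp (X.τ a₀)
  have hμ : ∀ b, μ b = (polar q₁ a₀ a₀)⁻¹ * polar q₁ (X.C b (Y a₀)) a₀ := fun b => by
    rw [X.polar_C]; rfl
  have hmid := (X.exists_mid_ne_bot P)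
  have hsc : ∀ b ∈ mid q₂ w w', ∀ x, X.C b (Y x) = μ b • x := by
    intro b hb x
    have hs := span_value X.nd₂ X.two (P.nondeg_mid X.nd₂) (by omega) (Or.inr hmid.1) (c := 0) (Or.inr hmid.1) hb
    clear hb
    induction hs using Submodule.span_induction with
    | mem s hs =>
      rcases eq_or_ne s 0 with rfl | hs0
      · rw [X.C_zero, map_zero, zero_smul]
      obtain ⟨l, hl⟩ := InQ.scalar X hO P hyM hy hs.1 hs.2 hs0
      rw [hl, hμ, hl, polar_smul_left, smul_eq_mul, mul_left_comm, inv_mul_cancel₀ ha2, mul_one]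
    | zero => rw [X.C_zero, map_zero, zero_smul]
    | add v v' _ _ hv hv' => rw [X.C_add, hv, hv', map_add, add_smul]
    | smul t v _ hv => rw [X.C_smul, hv, map_smul, smul_smul, smul_eq_mul]
  set b₀ := toVec X.nd₂ μ - polar q₂ w' (toVec X.nd₂ μ) • w - polar q₂ w (toVec X.nd₂ μ) • w'
  have hb₀ : b₀ ∈ mid q₂ w w' := P.proj_mem _
  obtain ⟨hwb, hw'b⟩ := mem_mid.1 hb₀
  refine ⟨b₀, hb₀, ?_⟩
  have hR : X.emb (1, eich q₂ w (-b₀)) ∈ M :=
    hO.le (X.emb₂_H (eich_mem_commutator X.nd₂ X.two P.q₁ (by rw [polar_neg_right, hwb, neg_zero])))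
  have hnb : polar q₂ w (-b₀) = 0 := by rw [polar_neg_right, hwb, neg_zero]
  suffices X.emb (1, eich q₂ w (-b₀)) * y = 1 by
    rw [eq_inv_of_mul_eq_one_right this, ← map_inv]
    congr 1
    refine Prod.ext inv_one (inv_eq_of_mul_eq_one_right ?_)
    show eich q₂ w (-b₀) * eich q₂ w b₀ = 1
    rw [eich_add P.q₁ hnb hwb, neg_add_cancel, ← zero_smul F w, eich_smul_self P.q₁]
  refine Over.inZ_eq_one X hO P (M.mul_mem hR hyM) ⟨fun x => ?_, fun z => ?_⟩
  · rw [app_mul, hy.1, X.app_R P.q₁ hnb, X.C_τ, X.C_τ, P.self₁, hnb]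
    simp
  · obtain ⟨r, hr⟩ := hy.2 (z - X.τ (X.C w z) w') (by
      rw [map_sub, X.C_τ, P.pair', one_smul, sub_self])
    have hYs : X.mov y w' (X.C w z) + X.τ (X.C w z) (-b₀) =
        X.τ (X.C w' (X.mov y w' (X.C w z) + X.τ (X.C w z) (-b₀))) w := by
      refine X.eq_slice P ?_ fun b hb => ?_
      · rw [map_add, X.C_mov hy.1, X.C_τ, polar_comm, hnb, zero_smul, add_zero]
      · rw [map_add, hsc b hb, X.C_τ, polar_neg_left, ← add_smul]
        obtain ⟨h1, h3⟩ := mem_mid.1 hb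
        rw [show polar q₂ b₀ b = μ b by
          rw [polar_sub_left, polar_sub_left, polar_smul_left, polar_smul_left, h1, h3, polar_toVec]; simp,
          add_neg_cancel, zero_smul]
    have hyz : app y z - z = X.τ r w + X.mov y w' (X.C w z) := by
      rw [← hr, mov_apply, map_sub]; abel
    refine ⟨r + X.C w' (X.mov y w' (X.C w z) + X.τ (X.C w z) (-b₀))
      + (-(X.C (-b₀) (app y z)) - q₂ (-b₀) • X.C w (app y z)), ?_⟩
    rw [app_mul, X.app_R P.q₁ hnb, X.C_app_fix hy.1]
    rw [map_add X.τ, map_add X.τ, LinearMap.add_apply, LinearMap.add_apply, ← hYs, show app y z = z + (X.τ r w + X.mov y w' (X.C w z)) by rw [← hyz]; abel]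
    abel

theorem slice_id (hO : X.Over M) {w v : Fin n₂ → F} {w' v' : Fin n₂ → F} (P : Hyp q₂ w w') (P' : Hyp q₂ v v')
    {g : O q} (hgM : g ∈ M) (hg : ∀ x, app g (X.τ x w) = X.τ x v) : g ∈ X.T := by
  have hmap : ∀ z, X.C v (app g z) = X.C w z := fun z => ext_polar X.nd₁ fun a =>
    X.C_map (φ := LinearMap.id) (fun x => hg x) z a
  have hψ : ∀ b ∈ mid q₂ w w', ∃ ψ ∈ mid q₂ v v', ∀ a, ∃ r,
      app g (X.τ a b) = X.τ a ψ + X.τ r v := by
    intro b hb
    obtain ⟨hwb, hw'b⟩ := mem_mid.1 hb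
    have hR : X.emb (1, eich q₂ w b) ∈ M := hO.le (X.emb₂_H (eich_mem_commutator X.nd₂ X.two P.q₁ hwb))
    have hRQ : X.InQ w (X.emb (1, eich q₂ w b)) := by
      refine ⟨fun x => ?_, fun z hz => ⟨-(X.C b z), ?_⟩⟩
      · rw [X.app_R P.q₁ hwb, X.C_τ, X.C_τ, P.self₁, hwb]
        simp
      · rw [X.app_R P.q₁ hwb, hz]
        simp
    obtain ⟨ψ, hψ, he⟩ := InQ.exists_eich X hO P' (M.mul_mem (M.mul_mem hgM hR) (M.inv_mem hgM))
      (InQ.conj X (φ := LinearMap.id) Function.surjective_id (fun x => hg x) hRQ)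
    obtain ⟨hvψ, hv'ψ⟩ := mem_mid.1 hψ
    refine ⟨ψ, hψ, fun a => ?_⟩
    have h := congrArg (fun k => app k (app g (X.τ a w'))) he
    simp only [app_mul, app_inv_app] at h
    rw [X.app_R P'.q₁ hvψ, hmap, X.C_τ, P.pair', one_smul, X.app_R P.q₁ hwb, X.C_τ, P.pair', one_smul,
      map_add, map_add, hg, add_assoc, add_assoc, add_right_inj] at h
    exact ⟨-(X.C ψ (app g (X.τ a w'))) - q₂ ψ • a - (-(X.C b (X.τ a w')) - q₂ b • a), by
      rw [map_sub X.τ, LinearMap.sub_apply, ← add_sub_assoc, eq_sub_iff_add_eq]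
      exact h⟩
  obtain ⟨d, hd⟩ := CfsgLib.OrthOmega.exists_not_square X.two
  obtain ⟨c, hc, hneg⟩ := chi_negO X.nd₁ X.two (by rw [Fintype.card_fin]; exact X.odd₁) hd
  have hcomm : ∀ x, q₁ x = c → ∀ z, app g (app (X.emb (negO q₁ * refl q₁ x, 1)) z) =
      app (X.emb (negO q₁ * refl q₁ x, 1)) (app g z) := by
    intro x hx
    set a := negO q₁ * refl q₁ x with ha
    have hxne : q₁ x ≠ 0 := hx ▸ hc
    have haΩ : a ∈ commutator (O q₁) := by
      rw [commutator_eq X.nd₁ X.two hd, MonoidHom.mem_ker, map_mul, hneg, chiPair_cls X.two hd hxne, hx]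
      exact Prod.ext (Int.units_mul_self _) (Int.units_mul_self _)
    have ha2 : a * a = 1 := ext_app fun z => by
      have e : app a (app a z) = z := by
        rw [ha, app_mul, app_mul, app_negO, app_negO, map_neg, neg_neg, ← app_mul, refl_mul_self, app_one]
      rw [app_mul, e, app_one]
    set A := X.emb (a, 1) with hA
    have hAM : A ∈ M := hO.le (X.emb₁_H haΩ)
    have hAfix : ∀ r u, app A (X.τ r u) = X.τ (app a r) u := fun r u => by
      rw [hA, X.app_emb, app_one]
    have hA2 : A * A = 1 := by rw [hA, ← map_mul, Prod.mk_mul_mk, ha2, mul_one, Prod.mk_one_one, map_one]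
    -- `g` commutes with `A` modulo the slice
    let L : (ι → F) →ₗ[F] ((ι → F) ⧸ LinearMap.range ((LinearMap.flip X.τ) v)) :=
      (Submodule.mkQ _).comp (((app g).comp (app A) - (app A).comp (app g)).comp
        (LinearMap.id - ((LinearMap.flip X.τ) w').comp (X.C w)))
    have hL : L = 0 := X.ext_τ fun r u => by
      show Submodule.Quotient.mk _ = 0
      rw [Submodule.Quotient.mk_eq_zero]
      have e : (LinearMap.id - ((LinearMap.flip X.τ) w').comp (X.C w) : (ι → F) →ₗ[F] (ι → F)) (X.τ r u) =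
          X.τ r (polar q₂ w' u • w + (u - polar q₂ w' u • w - polar q₂ w u • w')) := by
        simp only [LinearMap.sub_apply, LinearMap.id_apply, LinearMap.comp_apply, LinearMap.flip_apply, X.C_τ,
          map_smul, LinearMap.smul_apply, map_add, map_sub, polar_comm (f := ⇑q₂) u w]
        abel
      rw [LinearMap.comp_apply, e]
      obtain ⟨ψ, -, hψ'⟩ := hψ _ (P.proj_mem u)
      obtain ⟨r₁, h1⟩ := hψ' r
      obtain ⟨r₂, h3⟩ := hψ' (app a r)
      refine ⟨r₂ - app a r₁, ?_⟩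
      generalize u - polar q₂ w' u • w - polar q₂ w u • w' = e₀ at h1 h3 ⊢
      simp only [LinearMap.sub_apply, LinearMap.comp_apply, LinearMap.flip_apply, map_add, map_smul,
        LinearMap.add_apply, LinearMap.smul_apply, hAfix, hg, h1, h3, map_sub]
      module
    set n := g * A * g⁻¹ * A⁻¹ with hn
    have hAinv : A⁻¹ = A := inv_eq_of_mul_eq_one_right hA2
    have hnQ : X.InQ v n := by
      refine ⟨fun r => ?_, fun z hz => ?_⟩
      · rw [hn, hAinv, app_mul, app_mul, app_mul, hAfix,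
          show app g⁻¹ (X.τ (app a r) v) = X.τ (app a r) w by rw [← hg, app_inv_app], hAfix, hg, ← app_mul a a, ha2,
          app_one]
      · obtain ⟨z', rfl⟩ : ∃ t, app A (app g t) = z := ⟨app g⁻¹ (app A⁻¹ z), by
          rw [app_app_inv, app_app_inv]⟩
        have hz' : X.C w z' = 0 := by
          rw [hA, X.C_emb, Prod.fst, Prod.snd, inv_one, app_one, hmap] at hz
          exact app_injective a (by rw [hz, map_zero])
        have := LinearMap.congr_fun hL z'
        change Submodule.Quotient.mk _ = 0 at this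
        rw [Submodule.Quotient.mk_eq_zero] at this
        obtain ⟨r, hr⟩ := this
        refine ⟨r, ?_⟩
        simp only [LinearMap.sub_apply, LinearMap.id_apply, LinearMap.comp_apply, LinearMap.flip_apply, hz',
          map_zero, LinearMap.zero_apply, sub_zero] at hr
        rw [hr, hn, app_mul, app_inv_app, app_mul, app_inv_app, app_mul]
    obtain ⟨b₀, hb₀, he⟩ := InQ.exists_eich X hO P'
      (M.mul_mem (M.mul_mem (M.mul_mem hgM hAM) (M.inv_mem hgM)) (M.inv_mem hAM)) hnQ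
    obtain ⟨hvb, hv'b⟩ := mem_mid.1 hb₀
    have hgA : g * A * g⁻¹ = X.emb (a, eich q₂ v b₀) := by
      rw [show g * A * g⁻¹ = g * A * g⁻¹ * A⁻¹ * A by group, he, hA, ← map_mul, Prod.mk_mul_mk, one_mul, mul_one]
    have hsq : X.emb (1, eich q₂ v (b₀ + b₀)) = 1 := by
      rw [← eich_add P'.q₁ hvb hvb, show ((1 : O q₁), eich q₂ v b₀ * eich q₂ v b₀) =
        (a, eich q₂ v b₀) * (a, eich q₂ v b₀) by rw [Prod.mk_mul_mk, ha2], map_mul, ← hgA]
      rw [show g * A * g⁻¹ * (g * A * g⁻¹) = g * (A * A) * g⁻¹ by group, hA2]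
      group
    have hb0 : b₀ = 0 := by
      have h := congrArg (fun k => app k v') (X.emb_eq_one (map_one _) hsq).2
      simp only [app_one] at h
      have hz : polar q₂ v' (b₀ + b₀) = 0 := by rw [polar_add_right, hv'b, add_zero]
      rw [app_eich P'.q₁ (by rw [polar_add_right, hvb, add_zero]), P'.pair', hz, one_smul, add_assoc,
        add_eq_left, neg_zero, zero_sub, mul_one] at h
      have h' := congrArg (fun e => polar q₂ e v') h
      simp only [polar_add_left, polar_smul_left, polar_comm (f := ⇑q₂) b₀ v', hv'b, P'.pair, polar_zero_left,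
        smul_eq_mul, zero_add, mul_one] at h'
      rw [h', zero_smul, add_zero, ← two_smul F, smul_eq_zero] at h
      exact h.resolve_left X.two
    have hnA : g * A = A * g := by
      have h1 : g * A * g⁻¹ = A := by
        rw [hgA, hb0, ← zero_smul F v, eich_smul_self P'.q₁, hA]
      exact mul_inv_eq_iff_eq_mul.1 h1
    intro z
    rw [← app_mul, hnA, app_mul]
  -- `g` is `1 ⊗ β`
  obtain ⟨a₀, ha₀⟩ := exists_anisotropic X.nd₁ (by rw [Fintype.card_fin]; have := X.three; omega)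
  have ha2 : polar q₁ a₀ a₀ ≠ 0 := by rw [polar_self']; exact mul_ne_zero X.two ha₀
  let β : (Fin n₂ → F) →ₗ[F] (Fin n₂ → F) :=
    (polar q₁ a₀ a₀)⁻¹ • (X.D a₀).comp ((app g).comp (X.τ a₀))
  have hgβ : ∀ a u, app g (X.τ a u) = X.τ a (β u) := by
    intro a u
    refine sub_eq_zero.1 (X.eq_zero fun φ => ?_)
    rw [map_sub, X.C_τ, sub_eq_zero]
    let K : (Fin n₁ → F) →ₗ[F] (Fin n₁ → F) := (X.C φ).comp ((app g).comp ((LinearMap.flip X.τ) u))
    obtain ⟨l, hl⟩ := scalar_of_comm_value X.nd₁ X.two (by rw [Fintype.card_fin]; exact X.three)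
      (X.big.imp id fun h => by rw [Fintype.card_fin]; exact h) hc K fun x hx z => by
        have h := congrArg (X.C φ) (hcomm x hx (X.τ z u))
        rw [X.app_emb, app_one, X.C_emb, Prod.fst, Prod.snd, inv_one, app_one, app_mul, app_mul, app_negO,
          app_negO, map_neg, LinearMap.neg_apply, map_neg, map_neg] at h
        exact neg_injective h
    have hlφ : polar q₂ (β u) φ = l := by
      show polar q₂ ((polar q₁ a₀ a₀)⁻¹ • X.D a₀ (app g (X.τ a₀ u))) φ = l
      rw [polar_smul_left, X.polar_D, ← X.polar_C, show X.C φ (app g (X.τ a₀ u)) = l • a₀ from hl a₀,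
        polar_smul_left, smul_eq_mul, smul_eq_mul, mul_left_comm, inv_mul_cancel₀ ha2, mul_one]
    rw [hlφ]
    exact hl a
  have ha00 : a₀ ≠ 0 := fun h => ha₀ (by rw [h, QuadraticMap.map_zero])
  have hβq : ∀ u, q₂ (β u) = q₂ u := fun u => by
    have h := Q_app g (X.τ a₀ u)
    rw [hgβ, X.q_τ, X.q_τ] at h
    exact mul_left_cancel₀ (mul_ne_zero X.two ha₀) h
  have hinj : Function.Injective β := fun u u' h => by
    have h' : app g (X.τ a₀ (u - u')) = 0 := by rw [hgβ, map_sub, h, sub_self, map_zero]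
    exact sub_eq_zero.1 (X.τ_inj_right ha00 (app_injective g (by rw [h', map_zero])))
  refine ⟨(1, CfsgLib.OrthOmega.ofEquiv (LinearEquiv.ofInjectiveEndo β hinj) fun u => hβq u),
    X.ext_O fun a u => ?_⟩
  rw [X.app_emb, app_one, hgβ]
  exact congrArg (X.τ a) (CfsgLib.OrthOmega.app_ofEquiv (Q := q₂) (LinearEquiv.ofInjectiveEndo β hinj)
    (fun u => hβq u) u)

/-- An element mapping a singular slice into a slice preserves the decomposition. -/
theorem slice (hO : X.Over M) {w : Fin n₂ → F} (hw : q₂ w = 0) (hw0 : w ≠ 0) {v : Fin n₂ → F} {g : O q}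
    (hgM : g ∈ M) (hg : ∀ x, ∃ x', app g (X.τ x w) = X.τ x' v) : g ∈ X.T := by
  obtain ⟨w', P⟩ := exists_hyp X.nd₂ hw hw0
  obtain ⟨a₀, ha₀⟩ := exists_anisotropic X.nd₁ (by rw [Fintype.card_fin]; have := X.three; omega)
  have ha00 : a₀ ≠ 0 := fun h => ha₀ (by rw [h, QuadraticMap.map_zero])
  have hv0 : v ≠ 0 := fun h => by
    obtain ⟨x', hx⟩ := hg a₀
    rw [h, map_zero] at hx
    exact ha00 (X.τ_inj_left P.ne₁ (app_injective g (by rw [hx, map_zero])))
  obtain ⟨ψ, hψ⟩ := exists_polar_eq_one X.nd₂ hv0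
  let φ : (Fin n₁ → F) →ₗ[F] (Fin n₁ → F) := (X.C ψ).comp ((app g).comp ((LinearMap.flip X.τ) w))
  have hgφ : ∀ x, app g (X.τ x w) = X.τ (φ x) v := fun x => by
    obtain ⟨x', hx⟩ := hg x
    rw [hx]
    show X.τ x' v = X.τ (X.C ψ (app g (X.τ x w))) v
    rw [hx, X.C_τ, hψ, one_smul]
  have hφi : Function.Injective φ := fun x y h => by
    have h' : app g (X.τ (x - y) w) = 0 := by rw [hgφ, map_sub, h, sub_self, map_zero, LinearMap.zero_apply]
    exact sub_eq_zero.1 (X.τ_inj_left P.ne₁ (app_injective g (by rw [h', map_zero])))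
  have hφs : Function.Surjective φ := LinearMap.surjective_of_injective hφi
  have hqv : q₂ v = 0 := by
    obtain ⟨x, hx⟩ := hφs a₀
    have h := Q_app g (X.τ x w)
    rw [hgφ, hx, X.q_τ, X.q_τ, hw, mul_zero, mul_eq_zero] at h
    exact h.resolve_left (mul_ne_zero X.two ha₀)
  obtain ⟨v', P'⟩ := exists_hyp X.nd₂ hqv hv0
  -- `φ` is a similitude
  obtain ⟨b, hb, hqb⟩ := exists_aniso (P.nondeg_mid X.nd₂) (X.exists_mid_ne_bot P).2
  obtain ⟨hwb, hw'b⟩ := mem_mid.1 hb
  have hR : X.emb (1, eich q₂ w b) ∈ M := hO.le (X.emb₂_H (eich_mem_commutator X.nd₂ X.two P.q₁ hwb))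
  have hRQ : X.InQ w (X.emb (1, eich q₂ w b)) := by
    refine ⟨fun x => ?_, fun z hz => ⟨-(X.C b z), ?_⟩⟩
    · rw [X.app_R P.q₁ hwb, X.C_τ, X.C_τ, P.self₁, hwb]
      simp
    · rw [X.app_R P.q₁ hwb, hz]
      simp
  obtain ⟨e, hem, he⟩ := InQ.exists_eich X hO P' (M.mul_mem (M.mul_mem hgM hR) (M.inv_mem hgM))
    (InQ.conj X hφs hgφ hRQ)
  obtain ⟨hve, hv'e⟩ := mem_mid.1 hem
  have hev : ∀ z, app g (X.τ (X.C w z) b + X.τ (-(X.C b z) - q₂ b • X.C w z) w) =
      X.τ (X.C v (app g z)) e + X.τ (-(X.C e (app g z)) - q₂ e • X.C v (app g z)) v := by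
    intro z
    have h := congrArg (fun k => app k (app g z)) he
    simp only [app_mul, app_inv_app] at h
    rw [X.app_R P'.q₁ hve, X.app_R P.q₁ hwb, add_assoc, add_assoc, map_add, add_right_inj] at h
    exact h
  let χ : (Fin n₁ → F) →ₗ[F] (Fin n₁ → F) := (X.C v).comp ((app g).comp ((LinearMap.flip X.τ) w'))
  have hχ : ∀ a a', polar q₁ (χ a) (φ a') = polar q₁ a a' := fun a a' => by
    show polar q₁ (X.C v (app g (X.τ a w'))) (φ a') = _
    rw [X.C_map hgφ, X.C_τ, P.pair', one_smul]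
  have hA : ∀ a, X.C e (app g (X.τ a b)) = (2 * q₂ b) • φ a := by
    intro a
    have h := hev (X.τ a b)
    have h0 : X.C v (app g (X.τ a b)) = 0 := eq_zero_of_polar X.nd₁ fun x => by
      obtain ⟨x, rfl⟩ := hφs x
      rw [X.C_map hgφ, X.C_τ, polar_comm (f := ⇑q₂) b w, hwb, zero_smul, polar_zero_left]
    rw [X.C_τ, polar_comm (f := ⇑q₂) b w, hwb, zero_smul, smul_zero, sub_zero, X.C_τ, polar_self', map_zero,
      LinearMap.zero_apply, zero_add, hgφ, h0, smul_zero, sub_zero, map_zero, LinearMap.zero_apply, zero_add] at h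
    have h' := congrArg (X.C v') h
    rw [X.C_τ, X.C_τ, P'.pair, one_smul, one_smul, map_neg, map_smul] at h'
    exact (neg_injective h').symm
  have hB : ∀ a, (2 * q₂ e) • χ a = (2 * q₂ b) • φ a := by
    intro a
    have h := congrArg (X.C e) (hev (X.τ a w'))
    rw [X.C_τ, P.pair', one_smul, map_add, map_add, map_add, hgφ, hA] at h
    simp only [X.C_τ, hve, polar_self', zero_smul, add_zero] at h
    exact h.symm
  have hqe : q₂ e ≠ 0 := fun h0 => by
    have h := hB a₀
    rw [h0, mul_zero, zero_smul, eq_comm, smul_eq_zero] at h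
    exact ha00 (hφi (by rw [h.resolve_left (mul_ne_zero X.two hqb), map_zero]))
  set μ := q₂ e / q₂ b
  have hsim : ∀ a a', polar q₁ (φ a) (φ a') = μ * polar q₁ a a' := by
    intro a a'
    have h := congrArg (fun r => polar q₁ r (φ a')) (hB a)
    simp only [polar_smul_left, smul_eq_mul, hχ] at h
    apply mul_left_cancel₀ (mul_ne_zero X.two hqb)
    rw [← h]
    show _ = 2 * q₂ b * (q₂ e / q₂ b * _)
    field_simp
  obtain ⟨ν, a, hν, -, hφa⟩ := similitude X.nd₁ X.two X.odd₁ (div_ne_zero hqe hqb) φ hsim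
  obtain ⟨u, hu, hh⟩ := X.compensate _ (X.fix_pair_surj P') a⁻¹
  have hmem := X.slice_id hO P (v := ν • v) (v' := ν⁻¹ • v')
    ⟨by rw [QuadraticMap.map_smul, P'.q₁, smul_zero], by rw [QuadraticMap.map_smul, P'.q₂, smul_zero],
      by rw [polar_smul_left, polar_smul_right, P'.pair, smul_eq_mul, smul_eq_mul, mul_one, mul_inv_cancel₀ hν]⟩
    (M.mul_mem (hO.le hh) hgM) fun x => by
      rw [app_mul, hgφ, X.app_emb, hu.1, hφa, map_smul, app_inv_app, map_smul, LinearMap.smul_apply, map_smul]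
  simpa using X.T.mul_mem (X.T.inv_mem (X.emb_mem_T (a⁻¹, u))) hmem

end Setting

end CfsgLib.TensorMax63
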