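import Cfsg.Agent.Lib.GeomClasses.OrthEich
import Cfsg.Agent.Lib.OrthOmega.Adjust

/-!
Facts about non-degenerate quadratic spaces in odd characteristic: irreducibility under reflections,
operators commuting with their conjugates, fixed vectors, unipotent isometries of small rank.
-/

set_option autoImplicit false
set_option linter.unusedSectionVars false

namespace CfsgLib.TensorMax63

open Matrix QuadraticMap CfsgLib.Orth
open CfsgLib.GeomClasses (OrthTools.orth OrthTools.mem_orth)

variable {ι : Type} [Fintype ι] [DecidableEq ι] {F : Type*} [Field F] [Fintype F] {q : QuadraticForm F (ι → F)}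

/-- The restriction of `q` to `X` is non-degenerate. -/
def Nondeg (q : QuadraticForm F (ι → F)) (X : Submodule F (ι → F)) : Prop :=
  ∀ x ∈ X, x ≠ 0 → ∃ y ∈ X, polar q x y ≠ 0

theorem nondeg_top (hq : q.polarBilin.Nondegenerate) : Nondeg q (⊤ : Submodule F (ι → F)) := fun x _ hx => by
  obtain ⟨a, ha⟩ := exists_polar_eq_one hq hx
  exact ⟨a, trivial, by rw [ha]; exact one_ne_zero⟩

theorem Nondeg.sep {X : Submodule F (ι → F)} (hX : Nondeg q X) :
    ∀ x ∈ X, (∀ y ∈ X, polar q x y = 0) → x = 0 := fun x hx h => by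
  by_contra hx0
  obtain ⟨y, hy, hxy⟩ := hX x hx hx0
  exact hxy (h y hy)

theorem mem_orth_one {a x : ι → F} :
    x ∈ OrthTools.orth q (Submodule.span F {a}) ↔ polar q a x = 0 := by
  refine ⟨fun h => OrthTools.mem_orth.1 h a (Submodule.mem_span_singleton_self a),
    fun h => OrthTools.mem_orth.2 fun y hy => ?_⟩
  obtain ⟨t, rfl⟩ := Submodule.mem_span_singleton.1 hy
  rw [polar_smul_left, h, smul_zero]

/-- The complement of an anisotropic vector inside a non-degenerate subspace. -/
theorem nondeg_inf (h2 : (2 : F) ≠ 0) {X : Submodule F (ι → F)} (hX : Nondeg q X) {a : ι → F} (ha : a ∈ X)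
    (hqa : q a ≠ 0) : Nondeg q (X ⊓ OrthTools.orth q (Submodule.span F {a})) := by
  intro x hx hx0
  obtain ⟨y, hy, hxy⟩ := hX x hx.1 hx0
  have hax := mem_orth_one.1 hx.2
  refine ⟨y - ((2 * q a)⁻¹ * polar q a y) • a, ⟨X.sub_mem hy (X.smul_mem _ ha), ?_⟩, ?_⟩
  · refine mem_orth_one.2 ?_
    rw [polar_sub_right, polar_smul_right, polar_self', smul_eq_mul]
    field_simp
    simp
  · rw [polar_sub_right, polar_smul_right, polar_comm (f := ⇑q) x a, hax, smul_zero, sub_zero]
    exact hxy

theorem finrank_inf_ge (hq : q.polarBilin.Nondegenerate) (X : Submodule F (ι → F)) (a : ι → F) :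
    Module.finrank F X ≤ Module.finrank F ↥(X ⊓ OrthTools.orth q (Submodule.span F {a})) + 1 :=
  CfsgLib.GeomClasses.OrthTools.finrank_inf_orth hq X a

theorem exists_partner' {X : Submodule F (ι → F)} (hX : Nondeg q X) {u : ι → F} (hu : u ∈ X) (hu0 : u ≠ 0)
    (hqu : q u = 0) : ∃ t ∈ X, q t = 0 ∧ polar q u t = 1 :=
  CfsgLib.GeomClasses.OrthTools.exists_partner hX hu hu0 hqu

theorem exists_aniso {X : Submodule F (ι → F)} (hX : Nondeg q X) (hne : X ≠ ⊥) : ∃ x ∈ X, q x ≠ 0 := by
  refine CfsgLib.OrthOmega.exists_anisotropic_sub X hX.sep ?_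
  rw [Nat.one_le_iff_ne_zero, Ne, Submodule.finrank_eq_zero]
  exact hne

theorem exists_aniso_pairing {X : Submodule F (ι → F)} (hX : Nondeg q X) (h2 : (2 : F) ≠ 0) {s : ι → F}
    (hs : s ∈ X) (hs0 : s ≠ 0) : ∃ u ∈ X, q u ≠ 0 ∧ polar q s u ≠ 0 := by
  by_cases hqs : q s = 0
  · obtain ⟨r, hr, hqr, hsr⟩ := exists_partner' hX hs hs0 hqs
    refine ⟨s + r, X.add_mem hs hr, ?_, ?_⟩
    · rw [QuadraticMap.map_add ⇑q, hqs, hqr, hsr]; simp
    · rw [polar_add_right, polar_self', hqs, hsr]; simp
  · exact ⟨s, hs, hqs, by rw [polar_self']; exact mul_ne_zero h2 hqs⟩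

section

theorem exists_scale (h5 : 5 ≤ Fintype.card F) (c : F) : ∃ t : F, t ≠ 0 ∧ t * t ≠ c := by
  classical
  by_cases hc : c = 1
  · obtain ⟨t, ht⟩ : ∃ t : F, t ∉ ({0, 1, -1} : Finset F) := by
      by_contra h
      push Not at h
      have h1 := Finset.card_le_card (fun t _ => h t : (Finset.univ : Finset F) ⊆ {0, 1, -1})
      have h2 := (Finset.card_le_three (a := (0 : F)) (b := 1) (c := -1))
      rw [Finset.card_univ] at h1
      omega
    simp only [Finset.mem_insert, Finset.mem_singleton, not_or] at ht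
    refine ⟨t, ht.1, fun h => ?_⟩
    rcases mul_self_eq_one_iff.1 (h.trans hc) with h' | h'
    · exact ht.2.1 h'
    · exact ht.2.2 h'
  · exact ⟨1, one_ne_zero, by rw [mul_one]; exact Ne.symm hc⟩

/-- A non-zero vector avoiding a given value. -/
theorem exists_avoid (hq : q.polarBilin.Nondegenerate) {X : Submodule F (ι → F)} (hX : Nondeg q X)
    (hne : X ≠ ⊥) (hbig : 5 ≤ Fintype.card F ∨ 3 ≤ Module.finrank F X) (c : F) :
    ∃ e ∈ X, e ≠ 0 ∧ q e ≠ c := by
  obtain ⟨e, he, hqe⟩ := exists_aniso hX hne
  have he0 : e ≠ 0 := fun h => hqe (by rw [h, QuadraticMap.map_zero])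
  rcases eq_or_ne c 0 with rfl | hc
  · exact ⟨e, he, he0, hqe⟩
  rcases hbig with h5 | h3
  · obtain ⟨t, ht0, ht⟩ := exists_scale h5 (c / q e)
    refine ⟨t • e, X.smul_mem _ he, smul_ne_zero ht0 he0, fun h => ht ?_⟩
    rw [QuadraticMap.map_smul, smul_eq_mul] at h
    rw [← h, mul_div_assoc, div_self hqe, mul_one]
  · obtain ⟨s, hs, hs0, hqs⟩ := CfsgLib.GeomClasses.OrthTools.exists_singular hq X h3
    exact ⟨s, hs, hs0, by rw [hqs]; exact Ne.symm hc⟩

/-- A non-zero subspace invariant under all reflections of a non-degenerate subspace containing it is that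
subspace. -/
theorem irreducible (hq : q.polarBilin.Nondegenerate) (h2 : (2 : F) ≠ 0) {X : Submodule F (ι → F)}
    (hX : Nondeg q X) (hbig : 5 ≤ Fintype.card F ∨ 3 ≤ Module.finrank F X) {S : Submodule F (ι → F)}
    (hSX : S ≤ X) (hne : ∃ s ∈ S, s ≠ 0)
    (hinv : ∀ u ∈ X, q u ≠ 0 → ∀ s ∈ S, app (refl q u) s ∈ S) : S = X := by
  have key : ∀ u ∈ X, q u ≠ 0 → ∀ s ∈ S, polar q s u ≠ 0 → u ∈ S := by
    intro u hu hqu s hs hsu
    have h := S.sub_mem hs (hinv u hu hqu s hs)
    rw [app_refl, sub_sub_cancel] at h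
    exact (Submodule.smul_mem_iff S (mul_ne_zero (inv_ne_zero hqu) hsu)).1 h
  obtain ⟨s, hs, hs0⟩ := hne
  obtain ⟨u, hu, hqu, hsu⟩ := exists_aniso_pairing hX h2 (hSX hs) hs0
  have huS := key u hu hqu s hs hsu
  have haniso : ∀ y ∈ X ⊓ OrthTools.orth q (Submodule.span F {u}), q y ≠ 0 → y ∈ S := by
    intro y hy hqy
    have huy := mem_orth_one.1 hy.2
    have hu0 : polar q u u ≠ 0 := by rw [polar_self']; exact mul_ne_zero h2 hqu
    by_cases hsum : q y + q u = 0
    · rcases hbig with h5 | h3
      · obtain ⟨t, ht0, ht⟩ := exists_scale h5 1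
        have hv := key (y + t • u) (X.add_mem hy.1 (X.smul_mem _ hu)) ?_ u huS ?_
        · simpa using S.sub_mem hv (S.smul_mem t huS)
        · rw [QuadraticMap.map_add ⇑q, QuadraticMap.map_smul, polar_smul_right, polar_comm (f := ⇑q) y u, huy,
            smul_eq_mul, smul_eq_mul, mul_zero, add_zero]
          intro h
          apply mul_ne_zero (sub_ne_zero.2 ht) hqu
          linear_combination h - hsum
        · rw [polar_add_right, polar_smul_right, huy, zero_add]
          exact smul_ne_zero ht0 hu0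
      · obtain ⟨z, hz, hqz⟩ := exists_aniso (nondeg_inf h2 (nondeg_inf h2 hX hu hqu) hy hqy) fun h => by
          have h1 := finrank_inf_ge hq X u
          have h3' := finrank_inf_ge hq (X ⊓ OrthTools.orth q (Submodule.span F {u})) y
          rw [h, finrank_bot] at h3'
          omega
        have hyz := mem_orth_one.1 hz.2
        have huz := mem_orth_one.1 hz.1.2
        have hv : ∀ e : F, e * e = 1 → y + e • z + u ∈ S := by
          intro e he
          refine key _ (X.add_mem (X.add_mem hy.1 (X.smul_mem _ hz.1.1)) hu) ?_ u huS ?_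
          · rw [QuadraticMap.map_add ⇑q (y + e • z) u, QuadraticMap.map_add ⇑q y (e • z), polar_add_left,
              polar_smul_left, polar_smul_right, hyz, polar_comm (f := ⇑q) y u, huy,
              polar_comm (f := ⇑q) z u, huz, QuadraticMap.map_smul]
            simp only [smul_eq_mul, mul_zero, add_zero, he, one_mul]
            intro h
            exact hqz (by linear_combination h - hsum)
          · rw [polar_add_right, polar_add_right, polar_smul_right, huy, huz, smul_zero, add_zero, zero_add]
            exact hu0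
        have h' := S.sub_mem (S.sub_mem (S.add_mem (hv 1 (one_mul 1)) (hv (-1) (by ring))) huS) huS
        refine (Submodule.smul_mem_iff S h2).1 ?_
        convert h' using 1
        module
    · have hv := key (y + u) (X.add_mem hy.1 hu) ?_ u huS ?_
      · simpa using S.sub_mem hv huS
      · rwa [QuadraticMap.map_add ⇑q, polar_comm (f := ⇑q) y u, huy, add_zero]
      · rw [polar_add_right, huy, zero_add]; exact hu0
  refine le_antisymm hSX fun x hx => ?_
  set c := (2 * q u)⁻¹ * polar q u x with hc
  have hy : x - c • u ∈ X ⊓ OrthTools.orth q (Submodule.span F {u}) := by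
    refine ⟨X.sub_mem hx (X.smul_mem _ hu), mem_orth_one.2 ?_⟩
    rw [polar_sub_right, polar_smul_right, polar_self', hc, smul_eq_mul]
    field_simp
    ring
  suffices x - c • u ∈ S by simpa using S.add_mem this (S.smul_mem c huS)
  generalize x - c • u = y at hy ⊢
  by_cases hqy : q y = 0
  · rcases eq_or_ne y 0 with rfl | hy0
    · exact S.zero_mem
    obtain ⟨r, hr, hqr, hyr⟩ := exists_partner' (nondeg_inf h2 hX hu hqu) hy hy0 hqy
    have hyr' := (X ⊓ OrthTools.orth q (Submodule.span F {u}))
    have h1 := haniso (y + r) (Submodule.add_mem _ hy hr) (by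
      rw [QuadraticMap.map_add ⇑q, hqy, hqr, hyr]; simp)
    have h3 := haniso (y - r) (Submodule.sub_mem _ hy hr) (by
      rw [sub_eq_add_neg, QuadraticMap.map_add ⇑q, QuadraticMap.map_neg, polar_neg_right, hqy, hqr, hyr]
      simp)
    refine (Submodule.smul_mem_iff S h2).1 ?_
    convert S.add_mem h1 h3 using 1
    module
  · exact haniso y hy hqy

/-- The vectors of one value span. -/
theorem span_value (hq : q.polarBilin.Nondegenerate) (h2 : (2 : F) ≠ 0) {X : Submodule F (ι → F)}
    (hX : Nondeg q X) (hd : 2 ≤ Module.finrank F X) (hbig : 5 ≤ Fintype.card F ∨ 3 ≤ Module.finrank F X)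
    {c : F} (hc : c ≠ 0 ∨ 3 ≤ Module.finrank F X) :
    X ≤ Submodule.span F {y | y ∈ X ∧ q y = c} := by
  classical
  refine (irreducible hq h2 hX hbig (Submodule.span_le.2 fun y hy => hy.1) ?_ ?_).ge
  · by_cases hc0 : c = 0
    · obtain ⟨y, hy, hy0, hqy⟩ := CfsgLib.GeomClasses.OrthTools.exists_singular hq X
        (hc.resolve_left (not_not.2 hc0))
      exact ⟨y, Submodule.subset_span ⟨hy, hqy.trans hc0.symm⟩, hy0⟩
    · obtain ⟨y, hy, hqy⟩ := CfsgLib.OrthOmega.exists_value_sub h2 X hX.sep hd hc0
      exact ⟨y, Submodule.subset_span ⟨hy, hqy⟩, fun h => hc0 (by rw [← hqy, h, QuadraticMap.map_zero])⟩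
  · intro u hu hqu s hs
    induction hs using Submodule.span_induction with
    | mem y hy =>
      refine Submodule.subset_span ⟨?_, by rw [Q_app]; exact hy.2⟩
      rw [app_refl]
      exact X.sub_mem hy.1 (X.smul_mem _ hu)
    | zero => simp
    | add x y _ _ hx hy => rw [map_add]; exact Submodule.add_mem _ hx hy
    | smul t x _ hx => rw [map_smul]; exact Submodule.smul_mem _ t hx

variable (hq : q.polarBilin.Nondegenerate) (h2 : (2 : F) ≠ 0) (hn : 3 ≤ Fintype.card ι)
  (hbig : 5 ≤ Fintype.card F ∨ 5 ≤ Fintype.card ι)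
include hq h2 hn hbig

omit hbig in
theorem finrank_orth_one (a : ι → F) (ha : a ≠ 0) :
    Module.finrank F ↥((⊤ : Submodule F (ι → F)) ⊓ OrthTools.orth q (Submodule.span F {a})) + 1 =
      Fintype.card ι := by
  rw [top_inf_eq, CfsgLib.GeomClasses.OrthTools.finrank_orth hq, finrank_span_singleton ha]
  omega

/-- A map commuting with the reflections of one value is scalar. -/
theorem scalar_of_comm_value {c : F} (hc : c ≠ 0) (K : (ι → F) →ₗ[F] (ι → F))
    (hK : ∀ v, q v = c → ∀ z, K (app (refl q v) z) = app (refl q v) (K z)) :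
    ∃ l : F, ∀ x, K x = l • x := by
  classical
  have heig : ∀ v, q v = c → ∃ l : F, K v = l • v := by
    intro v hv
    have h := hK v hv v
    have hqv : q v ≠ 0 := hv ▸ hc
    rw [app_refl_self hqv, map_neg, app_refl] at h
    refine ⟨(2 : F)⁻¹ * ((q v)⁻¹ * polar q (K v) v), ?_⟩
    rw [mul_smul, eq_inv_smul_iff₀ h2]
    have h' : ((q v)⁻¹ * polar q (K v) v) • v = K v - -K v := by rw [h]; abel
    rw [h']
    module
  have hperp : ∀ v, q v = c → ∀ z, polar q z v = 0 → polar q (K z) v = 0 := by
    intro v hv z hz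
    have h := hK v hv z
    rw [app_refl_of_ortho hz, app_refl] at h
    have hv0 : v ≠ 0 := fun h0 => hc (by rw [← hv, h0, QuadraticMap.map_zero])
    have h' : ((q v)⁻¹ * polar q (K z) v) • v = 0 := by
      have := congrArg (fun e => K z - e) h
      simpa using this.symm
    exact ((mul_eq_zero.1 ((smul_eq_zero.1 h').resolve_right hv0)).resolve_left
      (inv_ne_zero (hv ▸ hc)))
  have heq : ∀ v v', q v = c → q v' = c → polar q v v' ≠ 0 → ∀ l l' : F, K v = l • v → K v' = l' • v' → l = l' := by
    intro v v' hv hv' hvv l l' hl hl'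
    have hq' : polar q v' v' ≠ 0 := by rw [polar_self', hv']; exact mul_ne_zero h2 hc
    set a := polar q v v' / polar q v' v' with ha
    have hz : polar q (v - a • v') v' = 0 := by
      rw [polar_sub_left, polar_smul_left, smul_eq_mul, ha, div_mul_cancel₀ _ hq', sub_self]
    have h := hperp v' hv' _ hz
    rw [map_sub, map_smul, hl, hl', smul_smul, polar_sub_left, polar_smul_left, polar_smul_left, smul_eq_mul,
      smul_eq_mul, ha] at h
    field_simp at h
    exact mul_right_cancel₀ hvv (by linear_combination h)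
  obtain ⟨x₀, hx₀⟩ := exists_value_ne hq h2 (by omega) hc
  obtain ⟨l₀, hl₀⟩ := heig x₀ hx₀
  have hx00 : x₀ ≠ 0 := fun h => hc (by rw [← hx₀, h, QuadraticMap.map_zero])
  obtain ⟨a, ha0, hY⟩ : ∃ a : F, a ≠ 0 ∧ (c * (1 - a * a) ≠ 0 ∨
      3 ≤ Module.finrank F ↥((⊤ : Submodule F (ι → F)) ⊓ OrthTools.orth q (Submodule.span F {x₀}))) := by
    rcases hbig with h5 | h5
    · obtain ⟨t, ht0, ht⟩ := exists_scale h5 1
      exact ⟨t, ht0, Or.inl (mul_ne_zero hc (sub_ne_zero.2 (Ne.symm ht)))⟩
    · exact ⟨1, one_ne_zero, Or.inr (by have := finrank_orth_one hq h2 hn x₀ hx00; omega)⟩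
  set Y := (⊤ : Submodule F (ι → F)) ⊓ OrthTools.orth q (Submodule.span F {x₀}) with hYdef
  have hYn : Nondeg q Y := nondeg_inf h2 (nondeg_top hq) trivial (hx₀ ▸ hc)
  have hYd := finrank_orth_one hq h2 hn x₀ hx00
  have hspan := span_value hq h2 hYn (by rw [← hYdef] at hYd; omega) (hbig.imp id fun h => by
    rw [← hYdef] at hYd; omega) hY
  refine ⟨l₀, fun x => ?_⟩
  have hYe : ∀ y ∈ Y, K y = l₀ • y := by
    intro y hy
    have hy' := hspan hy
    clear hy
    induction hy' using Submodule.span_induction with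
    | mem y hy =>
      have hxy := mem_orth_one.1 hy.1.2
      have hv : q (a • x₀ + y) = c := by
        rw [QuadraticMap.map_add ⇑q, QuadraticMap.map_smul, polar_smul_left, hxy, hx₀, hy.2]
        simp only [smul_eq_mul]
        ring
      obtain ⟨l, hl⟩ := heig _ hv
      have hll : l₀ = l := heq x₀ _ hx₀ hv (by
        rw [polar_add_right, polar_smul_right, hxy, add_zero, polar_self', hx₀]
        exact smul_ne_zero ha0 (mul_ne_zero h2 hc)) _ _ hl₀ hl
      rw [map_add, map_smul, hl₀, ← hll] at hl
      linear_combination (norm := module) hl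
    | zero => simp
    | add x y _ _ hx hy => rw [map_add, hx, hy, smul_add]
    | smul t x _ hx => rw [map_smul, hx, smul_comm]
  set b := (2 * q x₀)⁻¹ * polar q x₀ x with hb
  have hy : x - b • x₀ ∈ Y := by
    refine ⟨trivial, mem_orth_one.2 ?_⟩
    rw [polar_sub_right, polar_smul_right, polar_self', hb, smul_eq_mul]
    have := hx₀ ▸ hc
    field_simp
    ring
  have h := hYe _ hy
  rw [map_sub, map_smul, hl₀] at h
  linear_combination (norm := module) h

omit hn in
/-- A self-adjoint map commuting with all its conjugates is scalar. -/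
theorem scalar_of_comm_conj (hn : 3 ≤ Fintype.card ι) (S : (ι → F) →ₗ[F] (ι → F))
    (hS : ∀ x y, polar q (S x) y = polar q x (S y))
    (hc : ∀ (g : O q) x, S (app g (S (app g⁻¹ x))) = app g (S (app g⁻¹ (S x)))) :
    ∃ l : F, ∀ x, S x = l • x := by
  have heig : ∀ x, q x ≠ 0 → ∃ l : F, S x = l • x := by
    intro x hx
    have hx2 : polar q x x ≠ 0 := by rw [polar_self']; exact mul_ne_zero h2 hx
    set p := S x - ((polar q x x)⁻¹ * polar q x (S x)) • x with hp
    by_cases hp0 : p = 0
    · exact ⟨_, sub_eq_zero.1 hp0⟩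
    exfalso
    have hxp : polar q x p = 0 := by
      rw [hp, polar_sub_right, polar_smul_right, smul_eq_mul, mul_comm (polar q x x)⁻¹, mul_assoc,
        inv_mul_cancel₀ hx2, mul_one, sub_self]
    -- `T = g⁻¹ S g` maps `x` into the span of `x` and `S x`
    have hspan : ∀ g : O q, app g⁻¹ (S (app g x)) ∈ Submodule.span F ({x, p} : Set (ι → F)) := by
      intro g
      let T : (ι → F) →ₗ[F] (ι → F) := (app g⁻¹).comp (S.comp (app g))
      let D : (ι → F) →ₗ[F] (ι → F) := (app (refl q x)).comp (S.comp (app (refl q x))) - S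
      have hTD : ∀ v, T (D v) = D (T v) := by
        intro v
        have e1 := hc g⁻¹
        rw [inv_inv] at e1
        have e2 := hc (g * refl q x)⁻¹
        rw [inv_inv] at e2
        show app g⁻¹ (S (app g (app (refl q x) (S (app (refl q x) v)) - S v))) =
          app (refl q x) (S (app (refl q x) (app g⁻¹ (S (app g v))))) - S (app g⁻¹ (S (app g v)))
        rw [e1 v, map_sub, map_sub, map_sub, sub_left_inj]
        have e3 := e2 (app (refl q x) v)
        simp only [_root_.mul_inv_rev, refl_inv, app_mul] at e3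
        have e4 : ∀ y, app (refl q x) (app (refl q x) y) = y := fun y => by
          rw [← app_mul, refl_mul_self, app_one]
        rw [e4] at e3
        have e5 := congrArg (app (refl q x)) e3
        rw [e4] at e5
        exact e5.symm
      have hD : ∀ v, D v = -((q x)⁻¹ * polar q v x) • S x
          + (((q x)⁻¹ * polar q v x * ((q x)⁻¹ * polar q (S x) x)) - (q x)⁻¹ * polar q (S v) x) • x := by
        intro v
        show app (refl q x) (S (app (refl q x) v)) - S v = _
        simp only [app_refl, map_sub, map_smul, polar_sub_left, polar_smul_left, smul_eq_mul]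
        match_scalars <;> ring
      have hmem : ∀ v, D v ∈ Submodule.span F ({x, p} : Set (ι → F)) := by
        intro v
        rw [hD, show S x = p + ((polar q x x)⁻¹ * polar q x (S x)) • x from (sub_add_cancel _ _).symm]
        have hxm : x ∈ Submodule.span F ({x, p} : Set (ι → F)) := Submodule.subset_span (by simp)
        have hpm : p ∈ Submodule.span F ({x, p} : Set (ι → F)) := Submodule.subset_span (by simp)
        exact Submodule.add_mem _ (Submodule.smul_mem _ _ (Submodule.add_mem _ hpm (Submodule.smul_mem _ _ hxm)))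
          (Submodule.smul_mem _ _ hxm)
      obtain ⟨v₀, hxv, hpv⟩ : ∃ v, polar q x v = 0 ∧ polar q p v = 1 := by
        refine exists_polar_eq_zero_one hq (u := x) (v := p) fun hm => hp0 ?_
        obtain ⟨t, ht⟩ := Submodule.mem_span_singleton.1 hm
        rw [← ht] at hxp ⊢
        rw [polar_smul_right, smul_eq_mul] at hxp
        rw [(mul_eq_zero.1 hxp).resolve_right hx2, zero_smul]
      have hDv : D v₀ = -(q x)⁻¹ • x := by
        have h1 : polar q (S v₀) x = 1 := by
          rw [hS, polar_comm, show S x = p + ((polar q x x)⁻¹ * polar q x (S x)) • x from (sub_add_cancel _ _).symm,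
            polar_add_left, polar_smul_left, hpv, hxv, smul_zero, add_zero]
        rw [hD, polar_comm (f := ⇑q) v₀ x, hxv, h1]
        simp
      have h := hTD v₀
      rw [hDv, map_smul] at h
      exact (Submodule.smul_mem_iff _ (neg_ne_zero.2 (inv_ne_zero hx))).1 (h ▸ hmem _)
    obtain ⟨u, hxu, hqu, hpu, hu⟩ : ∃ u, polar q x u = 0 ∧ q u ≠ 0 ∧ polar q p u ≠ 0 ∧
        ∀ t : F, u ≠ t • p := by
      have hX := nondeg_inf h2 (nondeg_top hq) (a := x) trivial hx
      have hpX : p ∈ (⊤ : Submodule F (ι → F)) ⊓ OrthTools.orth q (Submodule.span F {x}) :=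
        ⟨trivial, mem_orth_one.2 hxp⟩
      by_cases hqp : q p = 0
      · obtain ⟨r, hr, hqr, hpr⟩ := exists_partner' hX hpX hp0 hqp
        refine ⟨p + r, by rw [polar_add_right, hxp, mem_orth_one.1 hr.2, add_zero], ?_, ?_, fun t ht => ?_⟩
        · rw [QuadraticMap.map_add ⇑q, hqp, hqr, hpr]; simp
        · rw [polar_add_right, polar_self', hqp, hpr]; simp
        · have := congrArg (fun e => polar q p e) ht
          simp only [polar_add_right, polar_smul_right, polar_self', hqp, hpr, mul_zero, smul_zero, zero_add] at this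
          exact one_ne_zero this
      · have hY := nondeg_inf h2 hX hpX hqp
        have hx0 : x ≠ 0 := fun h => hx (by rw [h, QuadraticMap.map_zero])
        have h1 := finrank_orth_one hq h2 hn x hx0
        have h3 := finrank_inf_ge hq ((⊤ : Submodule F (ι → F)) ⊓ OrthTools.orth q (Submodule.span F {x})) p
        obtain ⟨e, he, he0, hqe⟩ := exists_avoid hq hY (fun h => by rw [h, finrank_bot] at h3; omega)
          (hbig.imp id fun h => by omega) (-q p)
        have hpe := mem_orth_one.1 he.2
        refine ⟨e + p, by rw [polar_add_right, mem_orth_one.1 he.1.2, hxp, add_zero], ?_, ?_, fun t ht => ?_⟩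
        · rw [QuadraticMap.map_add ⇑q, polar_comm (f := ⇑q) e p, hpe, add_zero]
          exact fun h => hqe (eq_neg_of_add_eq_zero_left h)
        · rw [polar_add_right, hpe, polar_self', zero_add]; exact mul_ne_zero h2 hqp
        · have e1 : e = (t - 1) • p := by rw [sub_smul, one_smul, ← ht, add_sub_cancel_right]
          rw [e1, polar_smul_right, polar_self', smul_eq_mul] at hpe
          rcases mul_eq_zero.1 hpe with h' | h'
          · exact he0 (by rw [e1, h', zero_smul])
          · exact mul_ne_zero h2 hqp h'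
    set g := refl q u
    have hgx : app g x = x := app_refl_of_ortho hxu
    have h := hspan g
    rw [hgx, show app g⁻¹ = app g by rw [refl_inv]] at h
    obtain ⟨a, b, hab⟩ := Submodule.mem_span_pair.1 h
    have hSx : S x = p + ((polar q x x)⁻¹ * polar q x (S x)) • x := (sub_add_cancel _ _).symm
    rw [hSx, map_add, map_smul, hgx, app_refl] at hab
    have h1 := congrArg (fun e => polar q x e) hab
    simp only [polar_add_right, polar_sub_right, polar_smul_right, hxp, hxu, smul_zero, sub_zero, zero_add,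
      smul_eq_mul, mul_zero, add_zero] at h1
    rw [mul_right_cancel₀ hx2 h1] at hab
    set k := (q u)⁻¹ * polar q p u
    have hk : k ≠ 0 := mul_ne_zero (inv_ne_zero hqu) hpu
    refine hu (k⁻¹ * (1 - b)) ?_
    rw [mul_smul, eq_inv_smul_iff₀ hk]
    linear_combination (norm := module) hab
  -- anisotropic vectors have equal eigenvalues
  have heq : ∀ x y, polar q x y ≠ 0 → ∀ l l' : F, S x = l • x → S y = l' • y → l = l' := by
    intro x y hxy l l' hl hl'
    have h := hS x y
    rw [hl, hl', polar_smul_left, polar_smul_right, smul_eq_mul, smul_eq_mul] at h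
    exact mul_right_cancel₀ hxy h
  obtain ⟨x₀, hx₀⟩ := exists_anisotropic hq (by omega)
  obtain ⟨l, hl⟩ := heig x₀ hx₀
  refine ⟨l, ?_⟩
  have hx00 : x₀ ≠ 0 := fun h => hx₀ (by rw [h, QuadraticMap.map_zero])
  have hY := nondeg_inf h2 (nondeg_top hq) (a := x₀) trivial hx₀
  have hYe : ∀ y ∈ (⊤ : Submodule F (ι → F)) ⊓ OrthTools.orth q (Submodule.span F {x₀}), q y ≠ 0 →
      S y = l • y := by
    intro y hy hqy
    obtain ⟨l', hl'⟩ := heig y hqy
    have hxy := mem_orth_one.1 hy.2
    obtain ⟨e, hxe, hye, hqu⟩ : ∃ e, polar q x₀ e = 0 ∧ polar q y e = 0 ∧ q (x₀ + y + e) ≠ 0 := by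
      by_cases hsum : q x₀ + q y = 0
      · have h1 := finrank_orth_one hq h2 hn x₀ hx00
        have h3 := finrank_inf_ge hq ((⊤ : Submodule F (ι → F)) ⊓ OrthTools.orth q (Submodule.span F {x₀})) y
        obtain ⟨e, he, hqe⟩ := exists_aniso (nondeg_inf h2 hY hy hqy) (fun h => by
          rw [h, finrank_bot] at h3; omega)
        refine ⟨e, mem_orth_one.1 he.1.2, mem_orth_one.1 he.2, ?_⟩
        rw [QuadraticMap.map_add ⇑q, QuadraticMap.map_add ⇑q, polar_add_left, hxy, mem_orth_one.1 he.1.2,
          mem_orth_one.1 he.2, add_zero, hsum]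
        simpa using hqe
      · exact ⟨0, by simp, by simp, by
          rw [add_zero, QuadraticMap.map_add ⇑q, hxy, add_zero]; exact hsum⟩
    obtain ⟨m, hm⟩ := heig _ hqu
    have e1 := heq x₀ _ (by
      rw [polar_add_right, polar_add_right, hxy, hxe, add_zero, add_zero, polar_self']
      exact mul_ne_zero h2 hx₀) _ _ hl hm
    have e2 := heq y _ (by
      rw [polar_add_right, polar_add_right, polar_comm (f := ⇑q) y x₀, hxy, hye, add_zero, zero_add, polar_self']
      exact mul_ne_zero h2 hqy) _ _ hl' hm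
    rw [hl', e2, e1]
  intro x
  set b := (2 * q x₀)⁻¹ * polar q x₀ x with hb
  have hy : x - b • x₀ ∈ (⊤ : Submodule F (ι → F)) ⊓ OrthTools.orth q (Submodule.span F {x₀}) := by
    refine ⟨trivial, mem_orth_one.2 ?_⟩
    rw [polar_sub_right, polar_smul_right, polar_self', hb, smul_eq_mul]
    field_simp
    ring
  have hS' : ∀ y ∈ (⊤ : Submodule F (ι → F)) ⊓ OrthTools.orth q (Submodule.span F {x₀}), S y = l • y := by
    intro y hy
    by_cases hqy : q y = 0
    · rcases eq_or_ne y 0 with rfl | hy0
      · simp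
      obtain ⟨r, hr, hqr, hyr⟩ := exists_partner' hY hy hy0 hqy
      have h1 := hYe (y + r) (Submodule.add_mem _ hy hr) (by
        rw [QuadraticMap.map_add ⇑q, hqy, hqr, hyr]; simp)
      have h3 := hYe (y - r) (Submodule.sub_mem _ hy hr) (by
        rw [sub_eq_add_neg, QuadraticMap.map_add ⇑q, QuadraticMap.map_neg, polar_neg_right, hqy, hqr, hyr]
        simp)
      rw [map_add] at h1
      rw [map_sub] at h3
      apply smul_right_injective (ι → F) h2
      show (2 : F) • S y = (2 : F) • (l • y)
      linear_combination (norm := module) h1 + h3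
    · exact hYe y hy hqy
  have h := hS' _ hy
  rw [map_sub, map_smul, hl] at h
  linear_combination (norm := module) h

end

/-- An isometry differing from the identity by a map of rank one, which kills its image, is trivial. -/
theorem eq_one_of_rank_one (hq : q.polarBilin.Nondegenerate) (h2 : (2 : F) ≠ 0) {g : O q}
    (φ : (ι → F) →ₗ[F] F) {e : ι → F} (hg : ∀ x, app g x = x + φ x • e) (he : φ e = 0) : g = 1 := by
  refine ext_app fun x => ?_
  rw [app_one, hg]
  by_contra hne
  rw [add_eq_left, smul_eq_zero, not_or] at hne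
  have hge : app g e = e := by rw [hg, he, zero_smul, add_zero]
  have h1 : ∀ y, φ y * polar q e e = 0 := by
    intro y
    have h := polar_app g y e
    rw [hge, hg, polar_add_left, polar_smul_left, smul_eq_mul, add_eq_left] at h
    exact h
  have hee : polar q e e = 0 := (mul_eq_zero.1 (h1 x)).resolve_left hne.1
  have hqe : q e = 0 := by rw [polar_self'] at hee; exact (mul_eq_zero.1 hee).resolve_left h2
  have h3 : ∀ y, φ y = 0 ∨ polar q y e = 0 := by
    intro y
    have h := Q_app g y
    rw [hg, QuadraticMap.map_add ⇑q, QuadraticMap.map_smul, hqe, smul_zero, add_zero, polar_smul_right,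
      smul_eq_mul, add_eq_left] at h
    exact mul_eq_zero.1 h
  obtain ⟨y, hy⟩ := exists_polar_eq_one hq hne.2
  rw [polar_comm] at hy
  rcases h3 x with h | h
  · exact hne.1 h
  rcases h3 y with h' | h'
  · rcases h3 (x + y) with h'' | h''
    · rw [map_add, h', add_zero] at h''; exact hne.1 h''
    · rw [polar_add_left, h, hy, zero_add] at h''; exact one_ne_zero h''
  · exact one_ne_zero (hy ▸ h')

/-- In odd dimension an isometry of determinant one fixes a non-zero vector. -/
theorem exists_fixed (hq : q.polarBilin.Nondegenerate) (h2 : (2 : F) ≠ 0) (hodd : Odd (Fintype.card ι))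
    {g : O q} (hg : detHom q g = 1) : ∃ v, v ≠ 0 ∧ app g v = v := by
  set M := ((g : Matrix.GeneralLinearGroup ι F) : Matrix ι ι F) with hM
  set B := LinearMap.BilinForm.toMatrix' q.polarBilin with hB
  have hBd : B.det ≠ 0 :=
    Matrix.nondegenerate_iff_det_ne_zero.1 (LinearMap.BilinForm.nondegenerate_toMatrix'_iff.2 hq)
  have hdetM : M.det = 1 := by
    have := congrArg Units.val hg
    simpa [detHom] using this
  have hiso : M.transpose * B * M = B := by
    have h := LinearMap.BilinForm.toMatrix'_comp q.polarBilin (app g) (app g)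
    rw [show LinearMap.BilinForm.comp q.polarBilin (app g) (app g) = q.polarBilin from
      LinearMap.ext₂ fun x y => polar_app g x y] at h
    rw [show LinearMap.toMatrix' (app g) = M from LinearMap.toMatrix'_toLin' M] at h
    exact h.symm
  have hkey : (M - 1).transpose * (B * M) = -(B * (M - 1)) := by
    rw [Matrix.transpose_sub, Matrix.transpose_one, Matrix.sub_mul, one_mul, ← mul_assoc, hiso, Matrix.mul_sub,
      mul_one, neg_sub]
  have hdet := congrArg Matrix.det hkey
  rw [Matrix.det_mul, Matrix.det_transpose, Matrix.det_mul, Matrix.det_neg, Matrix.det_mul, hdetM, mul_one,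
    hodd.neg_one_pow] at hdet
  have h0 : (M - 1).det = 0 := by
    have : (2 : F) * ((M - 1).det * B.det) = 0 := by linear_combination hdet
    exact ((mul_eq_zero.1 ((mul_eq_zero.1 this).resolve_left h2)).resolve_right hBd)
  obtain ⟨v, hv, hv'⟩ := Matrix.exists_mulVec_eq_zero_iff.2 h0
  refine ⟨v, hv, ?_⟩
  rw [Matrix.sub_mulVec, Matrix.one_mulVec, sub_eq_zero] at hv'
  exact hv'

end CfsgLib.TensorMax63
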