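import Cfsg.Agent.Lib.TensorMax63.Good

/-!
Elements fixing a pure elliptic plane pointwise preserve the decomposition (`n₂ = 5`); centralisers of good
involutions preserve it.
-/

set_option autoImplicit false
set_option linter.unusedSectionVars false
set_option linter.unusedSimpArgs false

namespace CfsgLib.TensorMax63

open Matrix QuadraticMap CfsgLib.Orth
open CfsgLib.GeomClasses (OrthTools.orth OrthTools.mem_orth)

variable {ι : Type} [Fintype ι] [DecidableEq ι] {F : Type*} [Field F] [Fintype F] [DecidableEq F] {n₁ n₂ : ℕ}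
  {q : QuadraticForm F (ι → F)} {q₁ : QuadraticForm F (Fin n₁ → F)} {q₂ : QuadraticForm F (Fin n₂ → F)}
  (X : Setting q q₁ q₂)

namespace Setting

variable {M : Subgroup (O q)}

/-- The tensors with right factor in a subspace. -/
noncomputable def As (S : Submodule F (Fin n₂ → F)) : Submodule F (ι → F) :=
  Submodule.span F {z | ∃ x, ∃ v ∈ S, z = X.τ x v}

theorem τ_mem_As {S : Submodule F (Fin n₂ → F)} {v : Fin n₂ → F} (hv : v ∈ S) (x : Fin n₁ → F) :
    X.τ x v ∈ X.As S :=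
  Submodule.subset_span ⟨x, v, hv, rfl⟩

include X in
theorem exists_value_plane (h5 : 5 ≤ Fintype.card F) (hneg : ¬ IsSquare (-1 : F)) :
    ∃ s t : F, s ≠ 0 ∧ t ≠ 0 ∧ s * s + t * t = 1 := by
  obtain ⟨r, hr0, hr⟩ := exists_scale h5 1
  have h1 : r * r + 1 ≠ 0 := fun h => hneg ⟨r, by linear_combination -h⟩
  refine ⟨2 * r / (r * r + 1), (r * r - 1) / (r * r + 1), div_ne_zero (mul_ne_zero X.two hr0) h1,
    div_ne_zero (sub_ne_zero.2 hr) h1, ?_⟩
  rw [div_mul_div_comm, div_mul_div_comm, ← add_div, div_eq_one_iff_eq (mul_ne_zero h1 h1)]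
  ring

theorem ratio {m : O q} {a b v a' b' v' : Fin n₂ → F} (hqa : q₂ a ≠ 0) (hqb : q₂ b ≠ 0) (hab : polar q₂ a b = 0)
    (hqb' : q₂ b' ≠ 0) {φa φb φv : (Fin n₁ → F) →ₗ[F] (Fin n₁ → F)}
    (ha : ∀ x, app m (X.τ x a) = X.τ (φa x) a') (hb : ∀ x, app m (X.τ x b) = X.τ (φb x) b')
    (hv : ∀ x, app m (X.τ x v) = X.τ (φv x) v') {s t : F} (hs : s ≠ 0) (ht : t ≠ 0) (hvs : v = s • a + t • b) :
    ∃ k : F, ∀ x, φb x = k • φa x := by
  have hsurj : ∀ {a a' : Fin n₂ → F} {φ : (Fin n₁ → F) →ₗ[F] (Fin n₁ → F)}, q₂ a ≠ 0 →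
      (∀ x, app m (X.τ x a) = X.τ (φ x) a') → Function.Surjective φ := by
    intro a a' φ hq h
    refine LinearMap.surjective_of_injective fun x y hxy => ?_
    have h' : app m (X.τ (x - y) a) = 0 := by rw [h, map_sub, hxy, sub_self, map_zero, LinearMap.zero_apply]
    exact sub_eq_zero.1 (X.τ_inj_left (b := a) (fun h0 => hq (by rw [h0, QuadraticMap.map_zero]))
      (app_injective m (by rw [h', map_zero])))
  obtain ⟨a₀, ha₀⟩ := exists_anisotropic X.nd₁ (by rw [Fintype.card_fin]; have := X.three; omega)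
  have hab' : polar q₂ a' b' = 0 := by
    obtain ⟨x, hx⟩ := hsurj hqa ha a₀
    obtain ⟨y, hy⟩ := hsurj hqb hb a₀
    have h := polar_app m (X.τ x a) (X.τ y b)
    rw [ha, hb, hx, hy, X.polar_τ, X.polar_τ, hab, mul_zero, polar_self'] at h
    exact (mul_eq_zero.1 h).resolve_left (mul_ne_zero X.two ha₀)
  have key : ∀ x, s • X.τ (φa x) a' + t • X.τ (φb x) b' = X.τ (φv x) v' := fun x => by
    rw [← hv, hvs, map_add, map_smul, map_smul, map_add, map_smul, map_smul, ha, hb]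
  have h1 : ∀ x, (s * polar q₂ a' a') • φa x = polar q₂ v' a' • φv x := fun x => by
    have := congrArg (X.C a') (key x)
    rwa [map_add, map_smul, map_smul, X.C_τ, X.C_τ, X.C_τ, polar_comm (f := ⇑q₂) b' a', hab', zero_smul, smul_zero,
      add_zero, smul_smul] at this
  have h3 : ∀ x, (t * polar q₂ b' b') • φb x = polar q₂ v' b' • φv x := fun x => by
    have := congrArg (X.C b') (key x)
    rwa [map_add, map_smul, map_smul, X.C_τ, X.C_τ, X.C_τ, hab', zero_smul, smul_zero, zero_add, smul_smul] at this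
  have hne : ∀ {a a' : Fin n₂ → F} {φ : (Fin n₁ → F) →ₗ[F] (Fin n₁ → F)}, q₂ a ≠ 0 →
      (∀ x, app m (X.τ x a) = X.τ (φ x) a') → polar q₂ a' a' ≠ 0 := by
    intro a a' φ hq h h0
    have := polar_app m (X.τ a₀ a) (X.τ a₀ a)
    rw [h, X.polar_τ, X.polar_τ, h0, mul_zero, polar_self', polar_self'] at this
    exact mul_ne_zero (mul_ne_zero X.two ha₀) (mul_ne_zero X.two hq) this.symm
  have hva : polar q₂ v' a' ≠ 0 := by
    intro h0
    obtain ⟨x, hx⟩ := hsurj hqa ha a₀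
    have := h1 x
    rw [h0, zero_smul, hx, smul_eq_zero] at this
    refine ha₀ ?_
    rw [this.resolve_left (mul_ne_zero hs (hne hqa ha)), QuadraticMap.map_zero]
  refine ⟨(t * polar q₂ b' b')⁻¹ * polar q₂ v' b' * ((polar q₂ v' a')⁻¹ * (s * polar q₂ a' a')), fun x => ?_⟩
  rw [mul_smul _ _ (φa x), mul_smul _ _ (φa x), h1, inv_smul_smul₀ hva, mul_smul, ← h3,
    inv_smul_smul₀ (mul_ne_zero ht (hne hqb hb))]

variable {Y : Submodule F (Fin n₂ → F)} (hY : Nondeg q₂ Y) (hYd : Module.finrank F Y = 3) (hO : X.Over M)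
  (hn5 : n₂ = 5) (hneg : ¬ IsSquare (-1 : F))

/-- Fixing the tensors over the orthogonal of `Y`. -/
def FixPerp (Y : Submodule F (Fin n₂ → F)) (m : O q) : Prop :=
  ∀ v, (∀ y ∈ Y, polar q₂ v y = 0) → ∀ x, app m (X.τ x v) = X.τ x v

include hY hYd hO hn5 hneg

theorem move_mem_T {m : O q} (hm : m ∈ M) (hfix : X.FixPerp Y m) {e e' : Fin n₂ → F} (he : e ∈ Y) (he' : e' ∈ Y)
    (hqe : q₂ e ≠ 0) (hqe' : q₂ e' ≠ 0) (hmap : ∀ x, ∃ x', app m (X.τ x e) = X.τ x' e') : m ∈ X.T := by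
  have h5 : 5 ≤ Fintype.card F := X.big.resolve_right (fun h => by have := X.lt; omega)
  -- a triple of axes of one value
  obtain ⟨p₀, hp₀, hep₀, -⟩ := X.exists_axis hY hYd he hqe
  obtain ⟨hp₀Y, hqp, a, ha, b, hb, hqa, hqb, hpa, hpb, hab, hsq, hspan⟩ := hp₀
  obtain ⟨p₀', hp₀'Y, hqp', hmap₀⟩ := X.axis_step hY hYd hO hn5 hm hfix he he' hqe hqe' hmap
    ⟨hp₀Y, hqp, a, ha, b, hb, hqa, hqb, hpa, hpb, hab, hsq, hspan⟩ hep₀
  have hP := nondeg_inf X.two hY hp₀Y hqp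
  have hd := finrank_inf_ge X.nd₂ Y p₀
  obtain ⟨a₁, ha₁, hqa₁⟩ := CfsgLib.OrthOmega.exists_value_sub X.two _ hP.sep (by omega) hqp
  have hpa₁ := mem_orth_one.1 ha₁.2
  have hd' := finrank_inf_ge X.nd₂ (Y ⊓ OrthTools.orth q₂ (Submodule.span F {p₀})) a₁
  obtain ⟨b₂, hb₂, hqb₂⟩ := exists_aniso (nondeg_inf X.two hP ha₁ (hqa₁ ▸ hqp)) fun h => by
    rw [h, finrank_bot] at hd'; omega
  have hpb₂ := mem_orth_one.1 hb₂.1.2
  have hab₂ := mem_orth_one.1 hb₂.2
  obtain ⟨s₁, t₁, hs₁⟩ := hspan a₁ ha₁.1 hpa₁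
  obtain ⟨s₂, t₂, hs₂⟩ := hspan b₂ hb₂.1.1 hpb₂
  obtain ⟨r, hr⟩ := plane_class hab hqa hqb hsq s₁ t₁ s₂ t₂ hs₁ hs₂ hab₂
  rw [hqa₁] at hr
  have hr0 : r ≠ 0 := fun h => mul_ne_zero hqp hqb₂ (by rw [hr, h, mul_zero])
  set b₁ := (q₂ p₀ / r) • b₂ with hb₁
  have hb₁Y : b₁ ∈ Y := Y.smul_mem _ hb₂.1.1
  have hqb₁ : q₂ b₁ = q₂ p₀ := by
    rw [hb₁, QuadraticMap.map_smul, smul_eq_mul]
    field_simp
    linear_combination hr
  have hpb₁ : polar q₂ p₀ b₁ = 0 := by rw [hb₁, polar_smul_right, hpb₂, smul_zero]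
  have hab₁ : polar q₂ a₁ b₁ = 0 := by rw [hb₁, polar_smul_right, hab₂, smul_zero]
  set c := q₂ p₀
  have hc2 : ∀ {u v : Fin n₂ → F}, q₂ u = c → q₂ v = c → IsSquare (q₂ u * q₂ v) := fun h h' => ⟨c, by rw [h, h']⟩
  obtain ⟨s, t, hs, ht, hst⟩ := X.exists_value_plane h5 hneg
  have hcomb : ∀ {u v : Fin n₂ → F}, q₂ u = c → q₂ v = c → polar q₂ u v = 0 →
      q₂ (s • u + t • v) = c ∧ q₂ (-t • u + s • v) = c ∧ polar q₂ (s • u + t • v) (-t • u + s • v) = 0 := by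
    intro u v hu hv huv
    have e : ∀ i j : F, q₂ (i • u + j • v) = (i * i + j * j) * c := fun i j => by
      rw [QuadraticMap.map_add ⇑q₂, QuadraticMap.map_smul, QuadraticMap.map_smul, polar_smul_left, polar_smul_right,
        huv, hu, hv]
      simp [add_mul]
    refine ⟨by rw [e, hst, one_mul], by rw [e]; linear_combination c * hst, ?_⟩
    simp only [polar_add_left, polar_add_right, polar_smul_left, polar_smul_right, polar_self', hu, hv, huv,
      polar_comm (f := ⇑q₂) v u, smul_eq_mul]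
    ring
  have hqc : c ≠ 0 := hqp
  have hax₁ : IsAxis (q₂ := q₂) Y a₁ := X.triple_axis hY hYd ha₁.1 hp₀Y hb₁Y (hqa₁ ▸ hqc) hqc (hqb₁ ▸ hqc)
    (by rw [polar_comm]; exact hpa₁) hab₁ hpb₁ (hc2 rfl hqb₁)
  have hbx₁ : IsAxis (q₂ := q₂) Y b₁ := X.triple_axis hY hYd hb₁Y hp₀Y ha₁.1 (hqb₁ ▸ hqc) hqc (hqa₁ ▸ hqc)
    (by rw [polar_comm]; exact hpb₁) (by rw [polar_comm]; exact hab₁) hpa₁ (hc2 rfl hqa₁)
  obtain ⟨hv1, hv1', hv1p⟩ := hcomb hqa₁ hqb₁ hab₁
  obtain ⟨hv2, hv2', hv2p⟩ := hcomb rfl hqa₁ hpa₁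
  have hvx : IsAxis (q₂ := q₂) Y (s • a₁ + t • b₁) := X.triple_axis hY hYd
    (Y.add_mem (Y.smul_mem _ ha₁.1) (Y.smul_mem _ hb₁Y)) hp₀Y
    (Y.add_mem (Y.smul_mem _ ha₁.1) (Y.smul_mem _ hb₁Y)) (hv1 ▸ hqc) hqc (hv1' ▸ hqc)
    (by rw [polar_add_left, polar_smul_left, polar_smul_left, polar_comm (f := ⇑q₂) a₁, hpa₁,
      polar_comm (f := ⇑q₂) b₁, hpb₁, smul_zero, smul_zero, add_zero]) hv1p
    (by rw [polar_add_right, polar_smul_right, polar_smul_right, hpa₁, hpb₁, smul_zero, smul_zero, add_zero])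
    (hc2 rfl hv1')
  have hwx : IsAxis (q₂ := q₂) Y (s • p₀ + t • a₁) := X.triple_axis hY hYd
    (Y.add_mem (Y.smul_mem _ hp₀Y) (Y.smul_mem _ ha₁.1)) hb₁Y
    (Y.add_mem (Y.smul_mem _ hp₀Y) (Y.smul_mem _ ha₁.1)) (hv2 ▸ hqc) (hqb₁ ▸ hqc) (hv2' ▸ hqc)
    (by rw [polar_add_left, polar_smul_left, polar_smul_left, hpb₁, hab₁, smul_zero, smul_zero, add_zero]) hv2p
    (by rw [polar_add_right, polar_smul_right, polar_smul_right, polar_comm (f := ⇑q₂) b₁, hpb₁,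
      polar_comm (f := ⇑q₂) b₁, hab₁, smul_zero, smul_zero, add_zero])
    (hc2 hqb₁ hv2')
  have hstep : ∀ {u u' p : Fin n₂ → F}, u ∈ Y → u' ∈ Y → q₂ u ≠ 0 → q₂ u' ≠ 0 →
      (∀ x, ∃ x', app m (X.τ x u) = X.τ x' u') → IsAxis (q₂ := q₂) Y p → polar q₂ u p = 0 →
      ∃ p' ∈ Y, q₂ p' ≠ 0 ∧ ∀ x, ∃ x', app m (X.τ x p) = X.τ x' p' :=
    fun hu hu' hqu hqu' hmu hp hup => X.axis_step hY hYd hO hn5 hm hfix hu hu' hqu hqu' hmu hp hup
  obtain ⟨a', ha'Y, hqa', hma⟩ := hstep hp₀Y hp₀'Y hqp hqp' hmap₀ hax₁ hpa₁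
  obtain ⟨b', hb'Y, hqb', hmb⟩ := hstep hp₀Y hp₀'Y hqp hqp' hmap₀ hbx₁ hpb₁
  obtain ⟨v', -, -, hmv⟩ := hstep hp₀Y hp₀'Y hqp hqp' hmap₀ hvx
    (by rw [polar_add_right, polar_smul_right, polar_smul_right, hpa₁, hpb₁, smul_zero, smul_zero, add_zero])
  obtain ⟨w', -, -, hmw⟩ := hstep hb₁Y hb'Y (hqb₁ ▸ hqc) hqb' hmb hwx
    (by rw [polar_add_right, polar_smul_right, polar_smul_right, polar_comm (f := ⇑q₂) b₁, hpb₁,
      polar_comm (f := ⇑q₂) b₁, hab₁, smul_zero, smul_zero, add_zero])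
  have hlin : ∀ {u u' : Fin n₂ → F}, (∀ x, ∃ x', app m (X.τ x u) = X.τ x' u') →
      ∃ φ : (Fin n₁ → F) →ₗ[F] (Fin n₁ → F), ∀ x, app m (X.τ x u) = X.τ (φ x) u' := by
    intro u u' h
    by_cases hu' : u' = 0
    · exact ⟨0, fun x => by obtain ⟨x', hx⟩ := h x; rw [hx, hu', map_zero, map_zero]⟩
    obtain ⟨ψ, hψ⟩ := exists_polar_eq_one X.nd₂ hu'
    refine ⟨(X.C ψ).comp ((app m).comp ((LinearMap.flip X.τ) u)), fun x => ?_⟩
    obtain ⟨x', hx⟩ := h x
    show app m (X.τ x u) = X.τ (X.C ψ (app m (X.τ x u))) u'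
    rw [hx, X.C_τ, hψ, one_smul]
  obtain ⟨φp, hφp⟩ := hlin hmap₀
  obtain ⟨φa, hφa⟩ := hlin hma
  obtain ⟨φb, hφb⟩ := hlin hmb
  obtain ⟨φv, hφv⟩ := hlin hmv
  obtain ⟨φw, hφw⟩ := hlin hmw
  obtain ⟨k₁, hk₁⟩ := X.ratio hqp (hqa₁ ▸ hqc) hpa₁ hqa' hφp hφa hφw hs ht rfl
  obtain ⟨k₂, hk₂⟩ := X.ratio (hqa₁ ▸ hqc) (hqb₁ ▸ hqc) hab₁ hqb' hφa hφb hφv hs ht rfl
  obtain ⟨w, hw, hw0, hqw⟩ := CfsgLib.GeomClasses.OrthTools.exists_singular X.nd₂ Y (by omega)
  set i := (2 * c)⁻¹ * polar q₂ p₀ w with hi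
  obtain ⟨j, l, hjl⟩ := X.plane_span hY hYd hp₀Y ha₁.1 hb₁Y hqp (hqa₁ ▸ hqc) (hqb₁ ▸ hqc) hpa₁ hpb₁ hab₁
    (v := w - i • p₀) (Y.sub_mem hw (Y.smul_mem _ hp₀Y)) (by
      rw [polar_sub_right, polar_smul_right, polar_self', hi, smul_eq_mul]
      have := X.two
      field_simp
      ring)
  refine X.slice hO hqw hw0 hm (v := i • p₀' + (j * k₁) • a' + (l * (k₂ * k₁)) • b') fun x => ⟨φp x, ?_⟩
  rw [show w = i • p₀ + (j • a₁ + l • b₁) by rw [← hjl]; abel]
  simp only [map_add, map_smul, hφp, hφa, hφb, hk₂, hk₁, LinearMap.smul_apply, map_smul, smul_smul]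
  module

/-- An element of `M` fixing the tensors over an elliptic plane preserves the decomposition. -/
theorem elliptic_mem_T (hPd : ∀ v, (∀ y ∈ Y, polar q₂ v y = 0) → q₂ v = 0 → v = 0) {m : O q} (hm : m ∈ M)
    (hfix : X.FixPerp Y m) : m ∈ X.T := by
  classical
  -- two orthogonal vectors spanning the plane
  set P := OrthTools.orth q₂ Y with hPdef
  have hPmem : ∀ {v}, v ∈ P ↔ ∀ y ∈ Y, polar q₂ v y = 0 := fun {v} => by
    rw [hPdef, OrthTools.mem_orth]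
    exact forall₂_congr fun y _ => by rw [polar_comm]
  have hPn : Nondeg q₂ P := CfsgLib.GeomClasses.OrthTools.orth_nondegenerate X.nd₂ hY
  have hPdim : Module.finrank F P = 2 := by
    rw [hPdef, CfsgLib.GeomClasses.OrthTools.finrank_orth X.nd₂, Fintype.card_fin, hYd, hn5]
  obtain ⟨p₁, hp₁, hqp₁⟩ := exists_aniso hPn (fun h => by rw [h, finrank_bot] at hPdim; omega)
  obtain ⟨p₂, hp₂, hqp₂⟩ := exists_aniso (nondeg_inf X.two hPn hp₁ hqp₁) fun h => by
    have := finrank_inf_ge X.nd₂ P p₁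
    rw [h, finrank_bot] at this
    omega
  have hp12 := mem_orth_one.1 hp₂.2
  have hYorth : ∀ v, polar q₂ v p₁ = 0 → polar q₂ v p₂ = 0 → v ∈ Y := by
    intro v h1 h3
    show v ∈ Y
    rw [← LinearMap.BilinForm.orthogonal_orthogonal X.nd₂ (polarBilin_isRefl X.nd₂) Y,
      LinearMap.BilinForm.mem_orthogonal_iff]
    intro u hu
    have hu' : u ∈ Submodule.span F ({p₁, p₂} : Set (Fin n₂ → F)) := by
      have hle : Submodule.span F ({p₁, p₂} : Set (Fin n₂ → F)) ≤ P := by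
        rw [Submodule.span_le]; rintro x (rfl | rfl)
        · exact hp₁
        · exact hp₂.1
      have hli : LinearIndependent F ![p₁, p₂] := by
        rw [LinearIndependent.pair_iff]
        intro i j hij
        have e1 := congrArg (polar q₂ p₁) hij
        have e3 := congrArg (polar q₂ p₂) hij
        simp only [polar_add_right, polar_smul_right, polar_self', hp12, polar_comm (f := ⇑q₂) p₂ p₁,
          polar_zero_right, smul_eq_mul, mul_zero, add_zero, zero_add] at e1 e3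
        exact ⟨(mul_eq_zero.1 e1).resolve_right (mul_ne_zero X.two hqp₁),
          (mul_eq_zero.1 e3).resolve_right (mul_ne_zero X.two hqp₂)⟩
      rw [Submodule.eq_of_le_of_finrank_eq hle (by
        rw [← Matrix.range_cons_cons_empty p₁ p₂ ![], finrank_span_eq_card hli, hPdim]; simp)]
      exact hu
    obtain ⟨i, j, rfl⟩ := Submodule.mem_span_pair.1 hu'
    show polar q₂ (i • p₁ + j • p₂) v = 0
    rw [polar_add_left, polar_smul_left, polar_smul_left, polar_comm (f := ⇑q₂) p₁ v, h1,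
      polar_comm (f := ⇑q₂) p₂ v, h3, smul_zero, smul_zero, add_zero]
  -- the fixator and its tensor part
  let L : Subgroup (O q) :=
    { carrier := {g | g ∈ M ∧ X.FixPerp Y g}
      one_mem' := ⟨M.one_mem, fun v _ x => app_one _⟩
      mul_mem' := fun {g h} hg hh => ⟨M.mul_mem hg.1 hh.1, fun v hv x => by
        rw [app_mul, hh.2 v hv x, hg.2 v hv x]⟩
      inv_mem' := fun {g} hg => ⟨M.inv_mem hg.1, fun v hv x => by
        conv_lhs => rw [← hg.2 v hv x, app_inv_app]⟩ }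
  -- the axis of a non-trivial element of the tensor part
  have haxis : ∀ i ∈ L ⊓ X.T, i ≠ 1 → ∃ e ∈ Y, e ≠ 0 ∧ (∀ x, app i (X.τ x e) = X.τ x e) ∧
      ∀ z, app i z = z → (∀ v ∈ P, X.C v z = 0) → ∃ x, z = X.τ x e := by
    rintro i ⟨⟨hiM, hiF⟩, hiT⟩ hi1
    obtain ⟨u, rfl, -⟩ := X.eq_emb₂_of_fix hiT (v := p₁) (fun h => hqp₁ (by rw [h, QuadraticMap.map_zero]))
      (hiF p₁ (hPmem.1 hp₁))
    obtain ⟨a₀, ha₀⟩ := exists_anisotropic X.nd₁ (by rw [Fintype.card_fin]; have := X.three; omega)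
    have ha00 : a₀ ≠ 0 := fun h => ha₀ (by rw [h, QuadraticMap.map_zero])
    have huP : ∀ v ∈ P, app u v = v := fun v hv => by
      have h := hiF v (hPmem.1 hv) a₀
      rw [X.app_emb, app_one] at h
      exact sub_eq_zero.1 (X.τ_inj_right ha00 (by rw [map_sub, h, sub_self]))
    have hudet : detHom q₂ u = 1 := by
      obtain ⟨d, hd⟩ := CfsgLib.OrthOmega.exists_not_square X.two
      have : u ∈ commutator (O q₂) := X.emb₂_mem.1 (hO.omega hiM)
      rw [commutator_eq X.nd₂ X.two hd, MonoidHom.mem_ker] at this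
      rw [detHom_eq X.nd₂ X.two hd, show chi q₂ 1 u = 1 from congrArg Prod.fst this,
        show chi q₂ d u = 1 from congrArg Prod.snd this, mul_one, map_one]
    obtain ⟨e, he0, hge⟩ := exists_fixed X.nd₂ X.two (by rw [Fintype.card_fin, hn5]; decide)
      (g := u * (refl q₂ p₁ * refl q₂ p₂)) (by
        rw [map_mul, map_mul, hudet, detHom_refl hqp₁, detHom_refl hqp₂]; simp)
    have e1 : app (refl q₂ p₁ * refl q₂ p₂) p₁ = -p₁ := by
      rw [app_mul, show app (refl q₂ p₂) p₁ = p₁ from app_refl_of_ortho hp12, app_refl_self hqp₁]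
    have e2 : app (refl q₂ p₁ * refl q₂ p₂) p₂ = -p₂ := by
      rw [app_mul, app_refl_self hqp₂, map_neg, app_refl_of_ortho (by rw [polar_comm]; exact hp12)]
    have hperp : ∀ p ∈ P, app (refl q₂ p₁ * refl q₂ p₂) p = -p → polar q₂ e p = 0 := by
      intro p hp hneg'
      have h := polar_app (u * (refl q₂ p₁ * refl q₂ p₂)) e p
      rw [hge, app_mul, hneg', map_neg, huP p hp, polar_neg_right] at h
      exact (mul_eq_zero.1 (show (2 : F) * polar q₂ e p = 0 by linear_combination -h)).resolve_left X.two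
    have h1 := hperp p₁ hp₁ e1
    have h3 := hperp p₂ hp₂.1 e2
    have hue : app u e = e := by
      conv_rhs => rw [← hge]
      rw [app_mul, app_mul, show app (refl q₂ p₂) e = e from app_refl_of_ortho h3, app_refl_of_ortho h1]
    have heY := hYorth e h1 h3
    refine ⟨e, heY, he0, fun x => by rw [X.app_emb, app_one, hue], fun z hz hzP => ?_⟩
    refine X.mem_line (S := P ⊔ movS u) ?_ ?_
    · intro φ hφ
      obtain ⟨v, hv, w, hw, rfl⟩ := Submodule.mem_sup.1 hφ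
      obtain ⟨a, rfl⟩ := mem_movS.1 hw
      have hC : X.C (app u a) z = X.C a z := by
        conv_lhs => rw [← hz, X.C_emb]
        simp [app_inv_app]
      rw [X.C_add, hzP v hv, X.C_sub, hC, sub_self, add_zero]
    · intro v hv
      have hvY : v ∈ Y := hYorth v (by rw [polar_comm]; exact hv p₁ (Submodule.mem_sup_left hp₁))
        (by rw [polar_comm]; exact hv p₂ (Submodule.mem_sup_left hp₂.1))
      have hvfix : v ∈ fixS u := by
        rw [fixS_eq X.nd₂, LinearMap.BilinForm.mem_orthogonal_iff]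
        exact fun w hw => hv w (Submodule.mem_sup_right hw)
      by_contra hcon
      push Not at hcon
      refine hi1 ?_
      rw [eq_one_of_fix X.nd₂ X.two hudet ?_, Prod.mk_one_one, map_one]
      have hsub : P ⊔ Submodule.span F ({e, v} : Set (Fin n₂ → F)) ≤ fixS u := by
        refine sup_le (fun w hw => mem_fixS.2 (huP w hw)) (Submodule.span_le.2 ?_)
        rintro w (rfl | rfl)
        · exact mem_fixS.2 hue
        · exact hvfix
      have hinf : P ⊓ Submodule.span F ({e, v} : Set (Fin n₂ → F)) = ⊥ := by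
        rw [Submodule.eq_bot_iff]
        intro w hw
        have hwY : w ∈ Y := Submodule.span_le.2 (by rintro x (rfl | rfl) <;> assumption) hw.2
        exact hY.sep w hwY fun y hy => (hPmem.1 hw.1) y hy
      have hli : LinearIndependent F ![e, v] := (LinearIndependent.pair_iff' he0).2 fun t ht => hcon t ht.symm
      have h4 := Submodule.finrank_mono hsub
      have h5 := Submodule.finrank_sup_add_finrank_inf_eq P (Submodule.span F ({e, v} : Set (Fin n₂ → F)))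
      rw [hinf, finrank_bot, hPdim, ← Matrix.range_cons_cons_empty e v ![], finrank_span_eq_card hli,
        Fintype.card_fin] at h5
      rw [← Matrix.range_cons_cons_empty e v ![]] at h4
      have := hn5
      rw [Fintype.card_fin]
      omega
  -- conjugators between elements of the tensor part lie in it
  have hconj : ∀ g ∈ L, ∀ i ∈ L ⊓ X.T, ∀ i' ∈ L ⊓ X.T, i ≠ 1 → g * i * g⁻¹ = i' → g ∈ L ⊓ X.T := by
    intro g hg i hi i' hi' hi1 hgi
    refine ⟨hg, ?_⟩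
    obtain ⟨e, he, he0, hie, -⟩ := haxis i hi hi1
    obtain ⟨e', he', -, -, hline⟩ := haxis i' hi' (fun h => hi1 (by rw [h] at hgi; exact conj_eq_one_iff.1 hgi))
    have hmap : ∀ x, ∃ x', app g (X.τ x e) = X.τ x' e' := by
      intro x
      refine hline _ ?_ fun v hv => eq_zero_of_polar X.nd₁ fun r => ?_
      · rw [← hgi, app_mul, app_mul, app_inv_app, hie]
      · rw [X.polar_C, ← hg.2 v (hPmem.1 hv) r, polar_app, X.polar_τ, polar_comm (f := ⇑q₂) e v,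
          hPmem.1 hv e he, mul_zero]
    by_cases hqe : q₂ e = 0
    · exact X.slice hO hqe he0 hg.1 hmap
    · refine X.move_mem_T hY hYd hO hn5 hneg hg.1 hg.2 he he' hqe (fun h0 => ?_) hmap
      obtain ⟨a₀, ha₀⟩ := exists_anisotropic X.nd₁ (by rw [Fintype.card_fin]; have := X.three; omega)
      obtain ⟨x', hx'⟩ := hmap a₀
      have h := Q_app g (X.τ a₀ e)
      rw [hx', X.q_τ, X.q_τ, h0, mul_zero] at h
      exact mul_ne_zero (mul_ne_zero X.two ha₀) hqe h.symm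
  by_contra hmT
  -- two involutions of the tensor part
  obtain ⟨e₀, he₀, hqe₀⟩ := exists_aniso hY (fun h => by rw [h, finrank_bot] at hYd; omega)
  obtain ⟨p, hp, -, a, ha, hqa, hea, hpa⟩ := X.exists_axis hY hYd he₀ hqe₀
  have hp0 := hp
  obtain ⟨hpY, hqp, -⟩ := hp
  obtain ⟨p', hp', hpp', -⟩ := X.exists_axis hY hYd hpY hqp
  obtain ⟨h₁, hh₁Ω, hh₁2, hh₁1, hh₁p, hh₁P, -⟩ := X.exists_flip
    hp0
  obtain ⟨h₂, hh₂Ω, hh₂2, hh₂1, -, hh₂P, hh₂m⟩ := X.exists_flip hp'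
  have hmemI : ∀ {h : O q₂}, h ∈ commutator (O q₂) → (∀ v, (∀ y ∈ Y, polar q₂ v y = 0) → app h v = v) → h ≠ 1 →
      X.emb (1, h) ∈ L ⊓ X.T ∧ X.emb (1, h) ≠ 1 := fun {h} hΩ hP' h1 =>
    ⟨⟨⟨hO.le (X.emb₂_H hΩ), fun v hv x => by rw [X.app_emb, app_one, hP' v hv]⟩, X.emb_mem_T _⟩,
      fun he => h1 (X.emb_eq_one (map_one _) he).2⟩
  obtain ⟨hI₁, hI₁'⟩ := hmemI hh₁Ω hh₁P hh₁1
  obtain ⟨hI₂, hI₂'⟩ := hmemI hh₂Ω hh₂P hh₂1
  have h12 : X.emb (1, h₁) ≠ X.emb (1, h₂) := fun h => by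
    have h' := (X.emb_inj (map_one _) (map_one _) h).2
    have := hh₂m p hpY (by rw [polar_comm]; exact hpp')
    rw [← h', hh₁p] at this
    refine hqp ?_
    rw [(smul_eq_zero.1 (show (2 : F) • p = 0 by rw [two_smul]; exact add_eq_zero_iff_eq_neg.2 this)).resolve_left
      X.two, QuadraticMap.map_zero]
  have hinv : ∀ {h : O q₂}, h * h = 1 → X.emb (1, h) * X.emb (1, h) = 1 := fun {h} hh => by
    rw [← map_mul, Prod.mk_mul_mk, one_mul, hh, Prod.mk_one_one, map_one]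
  -- pigeonhole on the cosets
  let K := (L ⊓ X.T).subgroupOf L
  let I : Fin 2 → L := ![⟨_, hI₁.1⟩, ⟨_, hI₂.1⟩]
  have hIK : ∀ k, (I k : O q) ∈ L ⊓ X.T ∧ (I k : O q) ≠ 1 ∧ (I k : O q) * I k = 1 := by
    intro k
    fin_cases k
    · exact ⟨hI₁, hI₁', hinv hh₁2⟩
    · exact ⟨hI₂, hI₂', hinv hh₂2⟩
  have hIinj : ∀ k k', (I k : O q) = I k' → k = k' := by
    intro k k' h
    fin_cases k <;> fin_cases k'
    · rfl
    · exact absurd h h12
    · exact absurd h.symm h12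
    · rfl
  set c₀ : L ⧸ K := QuotientGroup.mk 1
  let rep : L ⧸ K → L := fun c => Quotient.out (s := QuotientGroup.leftRel K) c
  haveI : Finite (O q) := Subtype.finite
  haveI : Fintype (L ⧸ K) := Fintype.ofFinite _
  have hout : ∀ c : L ⧸ K, c ≠ c₀ → (rep c : O q) ∉ L ⊓ X.T := by
    intro c hc hmem
    refine hc ?_
    rw [← QuotientGroup.out_eq' c, show c₀ = QuotientGroup.mk 1 from rfl, QuotientGroup.eq, mul_one]
    exact (L ⊓ X.T).inv_mem hmem
  let Ψ : {c : L ⧸ K // c ≠ c₀} × Fin 2 → {c : L ⧸ K // c ≠ c₀} := fun ck =>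
    ⟨QuotientGroup.mk (rep ck.1.1 * I ck.2 * (rep ck.1.1)⁻¹), fun h => by
      have h' : (rep ck.1.1 : O q) * I ck.2 * (rep ck.1.1 : O q)⁻¹ ∈ L ⊓ X.T := by
        rw [QuotientGroup.eq, mul_one] at h
        have := (L ⊓ X.T).inv_mem (show (((rep ck.1.1 * I ck.2 * (rep ck.1.1)⁻¹)⁻¹ : L) : O q) ∈
          L ⊓ X.T from h)
        simpa using this
      exact hout _ ck.1.2 (hconj _ (rep ck.1.1).2 _ (hIK ck.2).1 _ h' (hIK ck.2).2.1 rfl)⟩
  have hne : Nonempty {c : L ⧸ K // c ≠ c₀} := ⟨⟨QuotientGroup.mk ⟨m, hm, hfix⟩, fun h => hmT (by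
    rw [QuotientGroup.eq, mul_one] at h
    have h' : (m : O q)⁻¹ ∈ L ⊓ X.T := h
    simpa using (X.T.inv_mem h'.2))⟩⟩
  obtain ⟨⟨c, k⟩, ⟨c', k'⟩, hne', heq⟩ := Fintype.exists_ne_map_eq_of_card_lt Ψ (by
    rw [Fintype.card_prod, Fintype.card_fin]
    have := Fintype.card_pos (α := {c : L ⧸ K // c ≠ c₀})
    omega)
  set g : O q := ((rep c.1 : L) : O q) with hg
  set g' : O q := ((rep c'.1 : L) : O q) with hg'
  set j := g * I k * g⁻¹ with hj
  set j' := g' * I k' * g'⁻¹ with hj'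
  have hjj : j * j = 1 := by
    rw [hj, show g * (I k : O q) * g⁻¹ * (g * I k * g⁻¹) = g * ((I k : O q) * I k) * g⁻¹ by group, (hIK k).2.2]
    group
  have hjj' : j' * j' = 1 := by
    rw [hj', show g' * (I k' : O q) * g'⁻¹ * (g' * I k' * g'⁻¹) = g' * ((I k' : O q) * I k') * g'⁻¹ by group,
      (hIK k').2.2]
    group
  have hx : j⁻¹ * j' ∈ L ⊓ X.T := by
    have h := congrArg Subtype.val heq
    rw [QuotientGroup.eq] at h
    exact h
  have hjL : j ∈ L := L.mul_mem (L.mul_mem (rep c.1).2 (I k).2) (L.inv_mem (rep c.1).2)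
  have hjT : j ∉ L ⊓ X.T := fun h =>
    hout _ c.2 (hconj _ (rep c.1).2 _ (hIK k).1 _ h (hIK k).2.1 rfl)
  by_cases hx1 : j⁻¹ * j' = 1
  · rw [inv_mul_eq_one] at hx1
    have hcc : c = c' := by
      refine Subtype.ext ?_
      rw [← QuotientGroup.out_eq' c.1, ← QuotientGroup.out_eq' c'.1, QuotientGroup.eq]
      refine (hconj (g⁻¹ * g') (L.mul_mem (L.inv_mem (rep c.1).2) (rep c'.1).2) _ (hIK k').1 _
        (hIK k).1 (hIK k').2.1 ?_)
      have := congrArg (fun y => g⁻¹ * y * g) hx1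
      simp only [hj, hj'] at this
      rw [show g⁻¹ * (g * (I k : O q) * g⁻¹) * g = (I k : O q) by group] at this
      rw [this]
      group
    subst hcc
    refine hne' (Prod.ext rfl (hIinj k k' ?_))
    simp only [hj, hj'] at hx1
    exact mul_left_cancel (mul_right_cancel hx1)
  · refine hjT (hconj j hjL _ hx _ ((L ⊓ X.T).inv_mem hx) hx1 ?_)
    clear_value j j'
    simp only [_root_.mul_inv_rev, inv_eq_of_mul_eq_one_right hjj, inv_eq_of_mul_eq_one_right hjj', inv_inv]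
    rw [← mul_assoc, hjj, one_mul]

omit hYd hn5 hneg in
/-- The centraliser of a good pure involution: preserving the tensors over both summands. -/
theorem good_split (hd : 3 ≤ Module.finrank F Y)
    (hperp : (∃ v, (∀ y ∈ Y, polar q₂ v y = 0) ∧ v ≠ 0 ∧ q₂ v = 0) ∨
      (n₂ = 5 ∧ Module.finrank F Y = 3 ∧ ¬ IsSquare (-1 : F)))
    {g : O q} (hg : g ∈ M) (hpres : X.As (OrthTools.orth q₂ Y) ≤ (X.As (OrthTools.orth q₂ Y)).comap (app g)) :
    g ∈ X.T := by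
  set P := OrthTools.orth q₂ Y
  have hPmem : ∀ {v}, v ∈ P ↔ ∀ y ∈ Y, polar q₂ v y = 0 := fun {v} => by
    rw [OrthTools.mem_orth]
    exact forall₂_congr fun y _ => by rw [polar_comm]
  have honto : (X.As P).map (app g) = X.As P :=
    Submodule.eq_of_le_of_finrank_eq (Submodule.map_le_iff_le_comap.2 hpres)
      (Submodule.equivMapOfInjective (app g) (app_injective g) (X.As P)).finrank_eq.symm
  obtain ⟨w, hw, hw0, hqw⟩ := CfsgLib.GeomClasses.OrthTools.exists_singular X.nd₂ Y hd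
  obtain ⟨w', hw', hqw', hww'⟩ := exists_partner' hY hw hw0 hqw
  have P' : Hyp q₂ w w' := ⟨hqw, hqw', hww'⟩
  obtain ⟨c, hc, hqc⟩ : ∃ c ∈ Y ⊓ mid q₂ w w', q₂ c ≠ 0 := by
    have hn : Nondeg q₂ (Y ⊓ mid q₂ w w') := by
      intro x hx hx0
      obtain ⟨y, hy, hxy⟩ := hY x hx.1 hx0
      obtain ⟨h1, h3⟩ := mem_mid.1 hx.2
      refine ⟨_, ⟨Y.sub_mem (Y.sub_mem hy (Y.smul_mem _ hw)) (Y.smul_mem _ hw'), P'.proj_mem y⟩, ?_⟩
      rwa [polar_sub_right, polar_sub_right, polar_smul_right, polar_smul_right, polar_comm (f := ⇑q₂) x w, h1,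
        polar_comm (f := ⇑q₂) x w', h3, smul_zero, smul_zero, sub_zero, sub_zero]
    refine exists_aniso hn fun h => ?_
    have i1 := finrank_inf_ge X.nd₂ Y w
    have i3 := finrank_inf_ge X.nd₂ (Y ⊓ OrthTools.orth q₂ (Submodule.span F {w})) w'
    have e : (Y ⊓ OrthTools.orth q₂ (Submodule.span F {w})) ⊓ OrthTools.orth q₂ (Submodule.span F {w'}) =
        Y ⊓ mid q₂ w w' := by rw [mid, top_inf_eq, inf_assoc]
    rw [e, h, finrank_bot] at i3
    omega
  obtain ⟨hwc, hw'c⟩ := mem_mid.1 hc.2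
  set R := X.emb (1, eich q₂ w c) with hR
  have hRM : R ∈ M := hO.le (X.emb₂_H (eich_mem_commutator X.nd₂ X.two hqw hwc))
  have hfix : X.FixPerp Y (g * R * g⁻¹) := by
    intro v hv x
    have hmem : X.τ x v ∈ (X.As P).map (app g) := honto.symm ▸ X.τ_mem_As (hPmem.2 hv) x
    obtain ⟨z, hz, hgz⟩ := hmem
    rw [← hgz, app_mul, app_mul, app_inv_app]
    congr 1
    clear hgz
    induction hz using Submodule.span_induction with
    | mem z hz =>
      obtain ⟨x, u, hu, rfl⟩ := hz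
      rw [hR, X.app_emb, app_one, app_eich hqw hwc, (hPmem.1 hu) w hw, (hPmem.1 hu) c hc.1]
      simp
    | zero => rw [map_zero]
    | add a b _ _ ha hb => rw [map_add, ha, hb]
    | smul t a _ ha => rw [map_smul, ha]
  have hmM : g * R * g⁻¹ ∈ M := M.mul_mem (M.mul_mem hg hRM) (M.inv_mem hg)
  obtain ⟨b, hb⟩ : ∃ b, g * R * g⁻¹ = X.emb (1, b) := by
    by_cases hsing : ∃ v, (∀ y ∈ Y, polar q₂ v y = 0) ∧ v ≠ 0 ∧ q₂ v = 0
    · obtain ⟨v, hv, hv0, hqv⟩ := hsing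
      obtain ⟨b, hb, -⟩ := X.exists_emb₂ hO hmM hqv hv0 (hfix v hv)
      exact ⟨b, hb⟩
    · obtain ⟨hn5, hYd, hneg⟩ := hperp.resolve_left hsing
      have hT := X.elliptic_mem_T hY hYd hO hn5 hneg (fun v hv hqv => by
        by_contra hv0
        exact hsing ⟨v, hv, hv0, hqv⟩) hmM hfix
      obtain ⟨v, hv, hv0⟩ := Submodule.exists_mem_ne_zero_of_ne_bot (p := P) fun h => by
        have := CfsgLib.GeomClasses.OrthTools.finrank_orth X.nd₂ Y
        rw [show OrthTools.orth q₂ Y = ⊥ from h, finrank_bot, Fintype.card_fin] at this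
        omega
      obtain ⟨b, hb, -⟩ := X.eq_emb₂_of_fix hT hv0 (hfix v (hPmem.1 hv))
      exact ⟨b, hb⟩
  exact X.slice_of_conj hO P' hc.2 hqc hg hb

end Setting

end CfsgLib.TensorMax63
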