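import Cfsg.Agent.Lib.TensorMax63.Setting

/-!
An overgroup of the tensor stabiliser containing a non-trivial isometry which is the identity modulo a singular
slice contains every long root element of that slice, hence everything.
-/

set_option autoImplicit false
set_option linter.unusedSectionVars false

namespace CfsgLib.TensorMax63

open Matrix QuadraticMap CfsgLib.Orth
open CfsgLib.GeomClasses (OrthTools.orth OrthTools.mem_orth OrthEich.Full)

section

variable {κ : Type} [Fintype κ] [DecidableEq κ] {F : Type*} [Field F] [Fintype F]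
  {p : QuadraticForm F (κ → F)}

theorem ext_aniso (h2 : (2 : F) ≠ 0) {Y : Submodule F (κ → F)} (hY : Nondeg p Y) {M : Type*} [AddCommGroup M]
    [Module F M] {f g : (κ → F) →ₗ[F] M} (h : ∀ y ∈ Y, p y ≠ 0 → f y = g y) : ∀ y ∈ Y, f y = g y := by
  intro y hy
  by_cases hqy : p y = 0
  · rcases eq_or_ne y 0 with rfl | hy0
    · rw [map_zero, map_zero]
    obtain ⟨r, hr, hqr, hyr⟩ := exists_partner' hY hy hy0 hqy
    have h1 := h (y + r) (Y.add_mem hy hr) (by
      rw [QuadraticMap.map_add ⇑p, hqy, hqr, hyr]; simp)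
    have h3 := h (y - r) (Y.sub_mem hy hr) (by
      rw [sub_eq_add_neg, QuadraticMap.map_add ⇑p, QuadraticMap.map_neg, polar_neg_right, hqy, hqr, hyr]
      simp)
    rw [map_add, map_add] at h1
    rw [map_sub, map_sub] at h3
    have h4 : (2 : F) • f y = (2 : F) • g y := by linear_combination (norm := module) h1 + h3
    have h5 := congrArg ((2 : F)⁻¹ • ·) h4
    rwa [inv_smul_smul₀ h2, inv_smul_smul₀ h2] at h5
  · exact h y hy hqy

/-- A vector orthogonal to a subspace pairing to one with a vector outside it. -/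
theorem exists_dual (hp : p.polarBilin.Nondegenerate) {S : Submodule F (κ → F)} {y : κ → F} (hy : y ∉ S) :
    ∃ b, (∀ s ∈ S, polar p s b = 0) ∧ polar p y b = 1 := by
  by_contra hc
  push Not at hc
  apply hy
  rw [← LinearMap.BilinForm.orthogonal_orthogonal hp (polarBilin_isRefl hp) S,
    LinearMap.BilinForm.mem_orthogonal_iff]
  intro b hb
  show polar p b y = 0
  rw [polar_comm]
  by_contra h0
  refine hc ((polar p y b)⁻¹ • b) (fun s hs => ?_) (by rw [polar_smul_right, smul_eq_mul, inv_mul_cancel₀ h0])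
  rw [polar_smul_right, show polar p s b = 0 from LinearMap.BilinForm.mem_orthogonal_iff.1 hb s hs, smul_zero]

theorem exists_notMem {S Y : Submodule F (κ → F)} (h : Module.finrank F S < Module.finrank F Y) :
    ∃ y ∈ Y, y ∉ S := by
  by_contra hc
  push Not at hc
  have := Submodule.finrank_mono (show Y ≤ S from hc)
  omega

/-- A hyperbolic pair. -/
structure Hyp (p : QuadraticForm F (κ → F)) (w w' : κ → F) : Prop where
  q₁ : p w = 0
  q₂ : p w' = 0
  pair : polar p w w' = 1

namespace Hyp

variable {w w' : κ → F} (P : Hyp p w w')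
include P

theorem pair' : polar p w' w = 1 := by rw [polar_comm, P.pair]

theorem self₁ : polar p w w = 0 := by rw [polar_self', P.q₁, mul_zero]

theorem self₂ : polar p w' w' = 0 := by rw [polar_self', P.q₂, mul_zero]

theorem ne₁ : w ≠ 0 := fun h => one_ne_zero (by rw [← P.pair, h, polar_zero_left])

end Hyp

/-- The complement of a hyperbolic pair. -/
noncomputable def mid (p : QuadraticForm F (κ → F)) (w w' : κ → F) : Submodule F (κ → F) :=
  (⊤ ⊓ OrthTools.orth p (Submodule.span F {w})) ⊓ OrthTools.orth p (Submodule.span F {w'})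

theorem mem_mid {w w' x : κ → F} : x ∈ mid p w w' ↔ polar p w x = 0 ∧ polar p w' x = 0 := by
  simp [mid, mem_orth_one]

theorem exists_hyp (hp : p.polarBilin.Nondegenerate) {w : κ → F} (hw : p w = 0) (hw0 : w ≠ 0) :
    ∃ w', Hyp p w w' := by
  obtain ⟨t, -, ht, hwt⟩ := exists_partner' (nondeg_top hp) (u := w) trivial hw0 hw
  exact ⟨t, hw, ht, hwt⟩

namespace Hyp

variable {w w' : κ → F} (P : Hyp p w w')
include P

theorem proj_mem (x : κ → F) : x - polar p w' x • w - polar p w x • w' ∈ mid p w w' := by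
  rw [mem_mid]
  constructor
  · rw [polar_sub_right, polar_sub_right, polar_smul_right, polar_smul_right, P.self₁, P.pair, smul_eq_mul,
      smul_eq_mul, mul_zero, mul_one, sub_zero, sub_self]
  · rw [polar_sub_right, polar_sub_right, polar_smul_right, polar_smul_right, P.self₂, P.pair', smul_eq_mul,
      smul_eq_mul, mul_zero, mul_one, sub_zero, sub_self]

theorem nondeg_mid (hp : p.polarBilin.Nondegenerate) : Nondeg p (mid p w w') := by
  intro x hx hx0
  obtain ⟨y, hy⟩ := exists_polar_eq_one hp hx0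
  refine ⟨_, P.proj_mem y, ?_⟩
  obtain ⟨h1, h3⟩ := mem_mid.1 hx
  rw [polar_sub_right, polar_sub_right, polar_smul_right, polar_smul_right, polar_comm (f := ⇑p) x w, h1,
    polar_comm (f := ⇑p) x w', h3, smul_zero, smul_zero, sub_zero, sub_zero, hy]
  exact one_ne_zero

theorem finrank_mid (hp : p.polarBilin.Nondegenerate) :
    Fintype.card κ ≤ Module.finrank F (mid p w w') + 2 := by
  have h1 := finrank_inf_ge hp (⊤ : Submodule F (κ → F)) w
  have h2 := finrank_inf_ge hp ((⊤ : Submodule F (κ → F)) ⊓ OrthTools.orth p (Submodule.span F {w})) w'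
  rw [finrank_top, Module.finrank_fintype_fun_eq_card] at h1
  rw [mid]
  omega

/-- The singular vectors not orthogonal to `w` span. -/
theorem span_nonorth (hp : p.polarBilin.Nondegenerate) (h2 : (2 : F) ≠ 0) (hd : mid p w w' ≠ ⊥)
    (x : κ → F) : x ∈ Submodule.span F {v | p v = 0 ∧ polar p w v ≠ 0} := by
  set S := Submodule.span F {v | p v = 0 ∧ polar p w v ≠ 0}
  have hw'S : w' ∈ S := Submodule.subset_span ⟨P.q₂, by rw [P.pair]; exact one_ne_zero⟩
  have hv : ∀ c ∈ mid p w w', w' + c - p c • w ∈ S := by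
    intro c hc
    obtain ⟨h1, h3⟩ := mem_mid.1 hc
    refine Submodule.subset_span ⟨?_, ?_⟩
    · rw [sub_eq_add_neg, ← neg_smul, QuadraticMap.map_add ⇑p (w' + c), QuadraticMap.map_add ⇑p w' c,
        QuadraticMap.map_smul, polar_smul_right, polar_add_left, P.pair', polar_comm (f := ⇑p) c w, h1, P.q₁,
        P.q₂, h3]
      simp
    · rw [polar_sub_right, polar_add_right, polar_smul_right, P.pair, h1, P.self₁]
      simp
  have hmid : ∀ c ∈ mid p w w', c ∈ S := by
    intro c hc
    have h1 := S.sub_mem (hv c hc) (hv (-c) (Submodule.neg_mem _ hc))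
    rw [QuadraticMap.map_neg] at h1
    refine (Submodule.smul_mem_iff S h2).1 ?_
    convert h1 using 1
    module
  obtain ⟨e, he, hqe⟩ := exists_aniso (P.nondeg_mid hp) hd
  have hwS : w ∈ S := by
    refine (Submodule.smul_mem_iff S hqe).1 ?_
    convert S.sub_mem (S.add_mem hw'S (hmid e he)) (hv e he) using 1
    module
  have := S.add_mem (S.add_mem (hmid _ (P.proj_mem x)) (S.smul_mem (polar p w' x) hwS))
    (S.smul_mem (polar p w x) hw'S)
  convert this using 1
  module

end Hyp

/-- The skew map of a pair of vectors. -/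
noncomputable def skew (p : QuadraticForm F (κ → F)) (a b : κ → F) : (κ → F) →ₗ[F] (κ → F) :=
  (p.polarBilin a).smulRight b - (p.polarBilin b).smulRight a

theorem skew_apply (a b x : κ → F) : skew p a b x = polar p a x • b - polar p b x • a := rfl

/-- Skew-adjoint maps. -/
def IsSkew (p : QuadraticForm F (κ → F)) (K : (κ → F) →ₗ[F] (κ → F)) : Prop :=
  ∀ x y, polar p (K x) y + polar p x (K y) = 0

theorem isSkew_skew (a b : κ → F) : IsSkew p (skew p a b) := by
  intro x y
  simp only [skew_apply, polar_sub_left, polar_sub_right, polar_smul_left, polar_smul_right, smul_eq_mul,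
    polar_comm (f := ⇑p) x]
  ring

end

variable {ι : Type} [Fintype ι] [DecidableEq ι] {F : Type*} [Field F] [Fintype F] [DecidableEq F] {n₁ n₂ : ℕ}
  {q : QuadraticForm F (ι → F)} {q₁ : QuadraticForm F (Fin n₁ → F)} {q₂ : QuadraticForm F (Fin n₂ → F)}
  (X : Setting q q₁ q₂)

namespace Setting

include X in
theorem exists_mid_ne_bot {w w' : Fin n₂ → F} (P : Hyp q₂ w w') :
    3 ≤ Module.finrank F (mid q₂ w w') ∧ mid q₂ w w' ≠ ⊥ := by
  have h := P.finrank_mid X.nd₂
  rw [Fintype.card_fin] at h
  have h5 := X.five₂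
  refine ⟨by omega, fun hb => ?_⟩
  rw [hb, finrank_bot] at h
  omega

/-- Completion inside a coset of a subgroup with all spinor classes. -/
theorem compensate' (S : Subgroup (O q₂))
    (hS : ∀ d : F, ¬ IsSquare d → ∀ y, ∃ u ∈ S, chiPair q₂ d u = y) (a : O q₁) (b : O q₂) :
    ∃ u ∈ S, X.emb (a, b * u) ∈ X.H := by
  obtain ⟨d, hd⟩ := CfsgLib.OrthOmega.exists_not_square X.two
  obtain ⟨e₂, he₂⟩ := X.chi₂ hd
  obtain ⟨u, hu, hue⟩ := hS d hd (e₂.symm (chiPair q d (X.emb (a, b)))⁻¹)
  refine ⟨u, hu, X.emb_mem_T _, ?_⟩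
  show X.emb (a, b * u) ∈ commutator (O q)
  rw [commutator_eq X.nd X.two hd, MonoidHom.mem_ker,
    show (a, b * u) = (a, b) * ((1 : O q₁), u) by simp, map_mul, map_mul, he₂, hue, MulEquiv.apply_symm_apply,
    mul_inv_cancel]

/-- The stabiliser of a vector of the right factor. -/
def fixB (w : Fin n₂ → F) : Subgroup (O q₂) where
  carrier := {u | app u w = w}
  one_mem' := app_one w
  mul_mem' {u v} (hu : app u w = w) (hv : app v w = w) := show app (u * v) w = w by rw [app_mul, hv, hu]
  inv_mem' {u} (hu : app u w = w) := show app u⁻¹ w = w by conv_lhs => rw [← hu, app_inv_app]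

theorem mem_fixB {w : Fin n₂ → F} {u : O q₂} : u ∈ fixB (q₂ := q₂) w ↔ app u w = w := Iff.rfl

include X in
theorem fix_pair_surj {w w' : Fin n₂ → F} (P : Hyp q₂ w w') :
    ∀ d : F, ¬ IsSquare d → ∀ y, ∃ u ∈ fixB w ⊓ fixB w', chiPair q₂ d u = y := by
  refine surj_of_plane X.two _ (P.nondeg_mid X.nd₂) (by have := (X.exists_mid_ne_bot P).1; omega) fun v hv _ => ?_
  obtain ⟨h1, h3⟩ := mem_mid.1 hv
  exact ⟨app_refl_of_ortho h1, app_refl_of_ortho h3⟩

/-! ### The identity modulo a slice -/

/-- `z ↦ z + K(C_w z) ⊗ w`. -/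
noncomputable def zmap (w : Fin n₂ → F) (K : (Fin n₁ → F) →ₗ[F] (Fin n₁ → F)) : (ι → F) →ₗ[F] (ι → F) :=
  LinearMap.id + ((LinearMap.flip X.τ) w).comp (K.comp (X.C w))

theorem zmap_apply (w : Fin n₂ → F) (K : (Fin n₁ → F) →ₗ[F] (Fin n₁ → F)) (z : ι → F) :
    X.zmap w K z = z + X.τ (K (X.C w z)) w := rfl

theorem zmap_zmap {w : Fin n₂ → F} (hw : q₂ w = 0) (K L : (Fin n₁ → F) →ₗ[F] (Fin n₁ → F)) (z : ι → F) :
    X.zmap w K (X.zmap w L z) = X.zmap w (K + L) z := by
  rw [zmap_apply, zmap_apply, zmap_apply, map_add, X.C_τ, polar_self', hw, mul_zero, zero_smul, add_zero,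
    LinearMap.add_apply, map_add, LinearMap.add_apply]
  abel

open scoped Classical in
/-- The isometry of a skew map at a singular slice. -/
noncomputable def zel (w : Fin n₂ → F) (K : (Fin n₁ → F) →ₗ[F] (Fin n₁ → F)) : O q :=
  if h : q₂ w = 0 ∧ IsSkew q₁ K then
    mkO (X.zmap w K) (X.zmap w (-K))
      (LinearMap.ext fun z => by
        rw [LinearMap.comp_apply, X.zmap_zmap h.1, add_neg_cancel, zmap_apply]; simp)
      (LinearMap.ext fun z => by
        rw [LinearMap.comp_apply, X.zmap_zmap h.1, neg_add_cancel, zmap_apply]; simp)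
      (fun z => by
        rw [zmap_apply, QuadraticMap.map_add ⇑q, X.q_τ_singular _ h.1, add_zero, ← X.polar_C]
        have := h.2 (X.C w z) (X.C w z)
        rw [polar_comm (f := ⇑q₁) (K (X.C w z)), ← two_mul] at this
        rw [(mul_eq_zero.1 this).resolve_left X.two, add_zero])
  else 1

theorem app_zel {w : Fin n₂ → F} (hw : q₂ w = 0) {K : (Fin n₁ → F) →ₗ[F] (Fin n₁ → F)} (hK : IsSkew q₁ K)
    (z : ι → F) : app (X.zel w K) z = z + X.τ (K (X.C w z)) w := by
  rw [zel, dif_pos ⟨hw, hK⟩, app_mkO, zmap_apply]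

theorem eich_slice {w : Fin n₂ → F} (hw : q₂ w = 0) (a a' : Fin n₁ → F) :
    eich q (X.τ a w) (X.τ a' w) = X.zel w (skew q₁ a a') := by
  have h : polar q (X.τ a w) (X.τ a' w) = 0 := by rw [X.polar_τ, polar_self', hw, mul_zero, mul_zero]
  refine ext_app fun z => ?_
  rw [X.app_zel hw (isSkew_skew a a'), app_eich (X.q_τ_singular a hw) h, ← X.polar_C, ← X.polar_C, skew_apply,
    map_sub, map_smul, map_smul, LinearMap.sub_apply, LinearMap.smul_apply, LinearMap.smul_apply,
    X.q_τ_singular a' hw, polar_comm (f := ⇑q₁) a, polar_comm (f := ⇑q₁) a']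
  module

/-- The isometries which are the identity modulo the slice of `w` and on it. -/
def InZ (w : Fin n₂ → F) (y : O q) : Prop :=
  (∀ x, app y (X.τ x w) = X.τ x w) ∧ ∀ z, ∃ x, app y z - z = X.τ x w

theorem exists_zel {w w' : Fin n₂ → F} (P : Hyp q₂ w w') {y : O q} (hy : X.InZ w y) :
    ∃ K, IsSkew q₁ K ∧ y = X.zel w K := by
  let xf : (ι → F) →ₗ[F] (Fin n₁ → F) := (X.C w').comp (app y - LinearMap.id)
  have hx : ∀ z, app y z = z + X.τ (xf z) w := by
    intro z
    obtain ⟨x, hx⟩ := hy.2 z
    have : xf z = x := by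
      show X.C w' (app y z - z) = x
      rw [hx, X.C_τ, P.pair, one_smul]
    rw [this, ← hx, add_sub_cancel]
  let K : (Fin n₁ → F) →ₗ[F] (Fin n₁ → F) := xf.comp ((LinearMap.flip X.τ) w')
  have hiso : ∀ z a, polar q₁ (xf z) a + polar q₁ (X.C w z) (K a) = 0 := by
    intro z a
    have h := polar_app y z (X.τ a w')
    rw [hx z, hx (X.τ a w'), polar_add_left, polar_add_right, polar_add_right, X.polar_τ, X.polar_τ, P.pair,
      P.self₁, mul_one, mul_zero, add_zero, ← X.polar_C w z] at h
    show polar q₁ (xf z) a + polar q₁ (X.C w z) (xf (X.τ a w')) = 0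
    linear_combination h
  have hK : IsSkew q₁ K := by
    intro a a'
    have h := hiso (X.τ a w') a'
    rw [X.C_τ, P.pair', one_smul] at h
    exact h
  refine ⟨K, hK, ext_app fun z => ?_⟩
  have hxz : xf z = K (X.C w z) := ext_polar X.nd₁ fun a => by
    linear_combination hiso z a - hK (X.C w z) a
  rw [X.app_zel P.q₁ hK, hx, hxz]

/-- A proper overgroup of the tensor stabiliser. -/
structure Over (M : Subgroup (O q)) : Prop where
  le : X.H ≤ M
  omega : M ≤ commutator (O q)
  proper : ¬ commutator (O q) ≤ M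

variable {M : Subgroup (O q)}

/-- The skew maps whose isometries lie in `M`. -/
def InW (M : Subgroup (O q)) (w : Fin n₂ → F) (K : (Fin n₁ → F) →ₗ[F] (Fin n₁ → F)) : Prop :=
  IsSkew q₁ K ∧ X.zel w K ∈ M

theorem InW.add {w : Fin n₂ → F} (hw : q₂ w = 0) {K L : (Fin n₁ → F) →ₗ[F] (Fin n₁ → F)}
    (hK : X.InW M w K) (hL : X.InW M w L) : X.InW M w (K + L) := by
  have hs : IsSkew q₁ (K + L) := fun x y => by
    rw [LinearMap.add_apply, LinearMap.add_apply, polar_add_left, polar_add_right]
    linear_combination hK.1 x y + hL.1 x y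
  refine ⟨hs, ?_⟩
  convert M.mul_mem hK.2 hL.2 using 1
  refine ext_app fun z => ?_
  rw [app_mul, X.app_zel hw hL.1, X.app_zel hw hK.1, X.app_zel hw hs, ← X.zmap_apply, ← X.zmap_apply,
    ← X.zmap_apply, X.zmap_zmap hw]

theorem InW.conj {w : Fin n₂ → F} (hw : q₂ w = 0) {K : (Fin n₁ → F) →ₗ[F] (Fin n₁ → F)}
    (hK : X.InW M w K) {a : O q₁} {u : O q₂} {l : F} (hu : app u w = l • w) (h : X.emb (a, u) ∈ M) :
    X.InW M w ((l * l) • (app a).comp (K.comp (app a⁻¹))) := by
  have hs : IsSkew q₁ ((l * l) • (app a).comp (K.comp (app a⁻¹))) := fun x y => by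
    simp only [LinearMap.smul_apply, LinearMap.comp_apply, polar_smul_left, polar_smul_right, smul_eq_mul]
    have h1 : polar q₁ (app a (K (app a⁻¹ x))) y = polar q₁ (K (app a⁻¹ x)) (app a⁻¹ y) := by
      conv_lhs => rw [← app_app_inv a y, polar_app]
    have h2 : polar q₁ x (app a (K (app a⁻¹ y))) = polar q₁ (app a⁻¹ x) (K (app a⁻¹ y)) := by
      conv_lhs => rw [← app_app_inv a x, polar_app]
    rw [h1, h2]
    linear_combination (l * l) * hK.1 (app a⁻¹ x) (app a⁻¹ y)
  refine ⟨hs, ?_⟩
  convert M.mul_mem (M.mul_mem h hK.2) (M.inv_mem h) using 1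
  refine ext_app fun z => ?_
  rw [app_mul, app_mul, X.app_zel hw hK.1, map_add, app_app_inv, X.app_emb, X.app_zel hw hs,
    ← map_inv, X.C_emb]
  simp only [Prod.inv_mk, inv_inv, hu, LinearMap.smul_apply, LinearMap.comp_apply, map_smul,
    LinearMap.smul_apply, smul_smul]
  rw [X.C_smul]
  simp [smul_smul, mul_comm]

theorem InW.smul {w w' : Fin n₂ → F} (P : Hyp q₂ w w') (hM : X.H ≤ M)
    {K : (Fin n₁ → F) →ₗ[F] (Fin n₁ → F)} (hK : X.InW M w K) (t : F) : X.InW M w (t • K) := by
  have hsq : ∀ c : F, c ≠ 0 → X.InW M w ((c * c) • K) := by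
    intro c hc
    have e1 : app (refl q₂ (w + w') * refl q₂ (w + c • w')) w = c • w := by
      have hq1 : q₂ (w + w') = 1 := by
        rw [QuadraticMap.map_add ⇑q₂, P.q₁, P.q₂, P.pair]; simp
      have hqc : q₂ (w + c • w') = c := by
        rw [QuadraticMap.map_add ⇑q₂, QuadraticMap.map_smul, P.q₁, P.q₂, polar_smul_right, P.pair]; simp
      have e2 : app (refl q₂ (w + c • w')) w = -(c • w') := by
        rw [app_refl, polar_add_right, polar_smul_right, P.self₁, P.pair, hqc, smul_eq_mul]
        match_scalars <;> field_simp <;> ring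
      have e3 : app (refl q₂ (w + w')) w' = -w := by
        rw [app_refl, polar_add_right, P.self₂, P.pair', hq1]
        module
      rw [app_mul, e2, map_neg, map_smul, e3, smul_neg, neg_neg]
    obtain ⟨u, hu, hmem⟩ := X.compensate' _ (X.fix_pair_surj P) 1 (refl q₂ (w + w') * refl q₂ (w + c • w'))
    have := InW.conj X P.q₁ hK (l := c) (by rw [app_mul, mem_fixB.1 hu.1, e1]) (hM hmem)
    convert this using 2
    refine LinearMap.ext fun x => ?_
    simp
  have h0 : X.InW M w ((0 : F) • K) := by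
    rw [zero_smul]
    refine ⟨fun x y => by simp, ?_⟩
    convert M.one_mem using 1
    refine ext_app fun z => ?_
    rw [X.app_zel P.q₁ (fun x y => by simp), app_one]
    simp
  have hsq' : ∀ c : F, X.InW M w ((c * c) • K) := fun c => by
    rcases eq_or_ne c 0 with rfl | hc
    · rw [mul_zero]; exact h0
    · exact hsq c hc
  obtain ⟨x, y, hxy⟩ := exists_binary X.two (one_ne_zero : (1 : F) ≠ 0) (one_ne_zero : (1 : F) ≠ 0) t
  have := InW.add X P.q₁ (hsq' x) (hsq' y)
  rwa [← add_smul, show x * x + y * y = t by linear_combination hxy] at this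

/-- All root elements of a slice. -/
def SliceFull (M : Subgroup (O q)) (w : Fin n₂ → F) : Prop :=
  ∀ a a', eich q (X.τ a w) (X.τ a' w) ∈ M

theorem InW.all {w w' : Fin n₂ → F} (P : Hyp q₂ w w') (hM : X.H ≤ M)
    {K : (Fin n₁ → F) →ₗ[F] (Fin n₁ → F)} (hK : X.InW M w K) (hK0 : K ≠ 0) : X.SliceFull M w := by
  have hcard : 3 ≤ Fintype.card (Fin n₁) := by rw [Fintype.card_fin]; exact X.three
  have hconj : ∀ (a : O q₁) K, X.InW M w K → X.InW M w ((app a).comp (K.comp (app a⁻¹))) := by
    intro a K hK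
    obtain ⟨u, hu, hmem⟩ := X.compensate (fixB w ⊓ fixB w') (X.fix_pair_surj P) a
    have := InW.conj X P.q₁ hK (l := 1) (by rw [one_smul]; exact hu.1) (hM hmem)
    rwa [one_mul, one_smul] at this
  have hskew : ∀ (g : O q₁) a b, (app g).comp ((skew q₁ a b).comp (app g⁻¹)) = skew q₁ (app g a) (app g b) := by
    intro g a b
    refine LinearMap.ext fun x => ?_
    have h : ∀ c, polar q₁ c (app g⁻¹ x) = polar q₁ (app g c) x := fun c => by
      rw [← polar_app g, app_app_inv]
    simp [skew_apply, h]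
  have haddl : ∀ a a' b, skew q₁ (a + a') b = skew q₁ a b + skew q₁ a' b := fun a a' b =>
    LinearMap.ext fun x => by simp [skew_apply, polar_add_left]; module
  have haddr : ∀ a b b', skew q₁ a (b + b') = skew q₁ a b + skew q₁ a b' := fun a b b' =>
    LinearMap.ext fun x => by simp [skew_apply, polar_add_left]; module
  have hsmull : ∀ (t : F) a b, skew q₁ (t • a) b = t • skew q₁ a b := fun t a b =>
    LinearMap.ext fun x => by simp [skew_apply, polar_smul_left, smul_sub, smul_smul, mul_comm]
  have hsmulr : ∀ (t : F) a b, skew q₁ a (t • b) = t • skew q₁ a b := fun t a b =>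
    LinearMap.ext fun x => by simp [skew_apply, polar_smul_left, smul_sub, smul_smul, mul_comm]
  have hzero : X.InW M w 0 := by simpa using InW.smul X P hM hK 0
  -- an element of rank two
  obtain ⟨x, hx, hKx⟩ : ∃ x, q₁ x ≠ 0 ∧ K x ≠ 0 := by
    by_contra hc
    push Not at hc
    exact hK0 (LinearMap.ext fun y => ext_aniso X.two (nondeg_top X.nd₁) (g := 0) (fun y _ hy => hc y hy) y trivial)
  have hxKx : polar q₁ x (K x) = 0 := by
    have := hK.1 x x
    rw [polar_comm (f := ⇑q₁) (K x), ← two_mul] at this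
    exact (mul_eq_zero.1 this).resolve_left X.two
  have hpair : X.InW M w (skew q₁ x (K x)) := by
    have h := InW.add X P.q₁ hK (InW.smul X P hM (hconj (refl q₁ x) K hK) (-1))
    have h' := InW.smul X P hM h (q₁ x)
    convert h' using 2
    refine LinearMap.ext fun z => ?_
    have hz : polar q₁ (K z) x = -polar q₁ z (K x) := eq_neg_of_add_eq_zero_left (hK.1 z x)
    simp only [LinearMap.smul_apply, LinearMap.add_apply, LinearMap.comp_apply, refl_inv, app_refl, map_sub,
      map_smul, polar_sub_left, polar_smul_left, hz, polar_comm (f := ⇑q₁) (K x) x, hxKx, skew_apply,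
      polar_comm (f := ⇑q₁) z, smul_eq_mul]
    match_scalars <;> field_simp <;> ring
  -- all pairs through one anisotropic vector
  let S : Submodule F (Fin n₁ → F) :=
    { carrier := {y | polar q₁ x y = 0 ∧ X.InW M w (skew q₁ x y)}
      zero_mem' := ⟨polar_zero_right _ _, by
        convert hzero using 2
        exact LinearMap.ext fun z => by simp [skew_apply]⟩
      add_mem' := fun {y z} hy hz => ⟨by rw [polar_add_right, hy.1, hz.1, add_zero], by
        rw [haddr]; exact InW.add X P.q₁ hy.2 hz.2⟩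
      smul_mem' := fun t y hy => ⟨by rw [polar_smul_right, hy.1, smul_zero], by
        rw [hsmulr]; exact InW.smul X P hM hy.2 t⟩ }
  have hx0 : x ≠ 0 := fun h => hx (by rw [h, QuadraticMap.map_zero])
  have hdim := finrank_orth_one X.nd₁ X.two hcard x hx0
  rw [Fintype.card_fin] at hdim
  have hSX : S = (⊤ : Submodule F (Fin n₁ → F)) ⊓ OrthTools.orth q₁ (Submodule.span F {x}) := by
    refine irreducible X.nd₁ X.two (nondeg_inf X.two (nondeg_top X.nd₁) trivial hx)
      (X.big.imp id fun h => by omega) (fun y hy => ⟨trivial, mem_orth_one.2 hy.1⟩) ⟨K x, ⟨hxKx, hpair⟩, hKx⟩ ?_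
    intro u hu _ y hy
    have hux : app (refl q₁ u) x = x := app_refl_of_ortho (mem_orth_one.1 hu.2)
    refine ⟨by rw [← hux, polar_app]; exact hy.1, ?_⟩
    have := hconj (refl q₁ u) _ hy.2
    rwa [hskew, hux] at this
  let U : Submodule F (Fin n₁ → F) :=
    { carrier := {a | ∀ b, X.InW M w (skew q₁ a b)}
      zero_mem' := fun b => by
        convert hzero using 2
        exact LinearMap.ext fun z => by simp [skew_apply]
      add_mem' := fun {a a'} ha ha' b => by rw [haddl]; exact InW.add X P.q₁ (ha b) (ha' b)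
      smul_mem' := fun t a ha b => by rw [hsmull]; exact InW.smul X P hM (ha b) t }
  have hxU : x ∈ U := by
    intro b
    set c := (2 * q₁ x)⁻¹ * polar q₁ x b with hc
    have hb : b - c • x ∈ S := by
      rw [hSX]
      refine ⟨trivial, mem_orth_one.2 ?_⟩
      rw [polar_sub_right, polar_smul_right, polar_self', hc, smul_eq_mul]
      have := X.two
      field_simp
      ring
    convert hb.2 using 1
    exact LinearMap.ext fun z => by simp [skew_apply, polar_sub_left, polar_smul_left]; module
  have hU : U = ⊤ := by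
    refine irreducible X.nd₁ X.two (nondeg_top X.nd₁) (X.big.imp id fun h => by
      rw [finrank_top, Module.finrank_fin_fun]; omega) le_top ⟨x, hxU, hx0⟩ ?_
    intro u _ _ a ha b
    have := hconj (refl q₁ u) _ (ha (app (refl q₁ u)⁻¹ b))
    rwa [hskew, app_app_inv] at this
  intro a a'
  rw [X.eich_slice P.q₁]
  exact ((hU ▸ trivial : a ∈ U) a').2

theorem sliceFull_transport (hM : X.H ≤ M) {w w' : Fin n₂ → F} (hw : q₂ w = 0) (hw' : q₂ w' = 0)
    (hne : polar q₂ w w' ≠ 0) (hf : X.SliceFull M w) : X.SliceFull M w' := by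
  have hd : q₂ (w - w') = -polar q₂ w w' := by
    rw [sub_eq_add_neg, QuadraticMap.map_add ⇑q₂, QuadraticMap.map_neg, polar_neg_right, hw, hw']; simp
  have hr : app (refl q₂ (w - w')) w = w' := by
    rw [app_refl, hd, polar_sub_right, polar_self', hw, mul_zero, zero_sub]
    field_simp
    module
  obtain ⟨a, ha⟩ := X.compensate₁ (refl q₂ (w - w'))
  intro x x'
  have h := M.mul_mem (M.mul_mem (hM ha) (hf (app a⁻¹ x) (app a⁻¹ x'))) (M.inv_mem (hM ha))
  rwa [eich_conj (X.q_τ_singular _ hw) (by rw [X.polar_τ, polar_self', hw, mul_zero, mul_zero]), X.app_emb,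
    X.app_emb, app_app_inv, app_app_inv, hr] at h

theorem full_centre (hM : X.H ≤ M) {w w' : Fin n₂ → F} (P : Hyp q₂ w w') (hf : X.SliceFull M w)
    {a : Fin n₁ → F} (ha : a ≠ 0) : CfsgLib.GeomClasses.OrthEich.Full M (X.τ a w) := by
  have hu : q (X.τ a w) = 0 := X.q_τ_singular a P.q₁
  let S : Submodule F (ι → F) :=
    { carrier := {c | polar q (X.τ a w) c = 0 ∧ ∀ t : F, eich q (X.τ a w) (t • c) ∈ M}
      zero_mem' := ⟨polar_zero_right _ _, fun t => by
        rw [smul_zero, ← zero_smul F (X.τ a w), eich_smul_self hu]; exact M.one_mem⟩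
      add_mem' := fun {c c'} hc hc' => ⟨by rw [polar_add_right, hc.1, hc'.1, add_zero], fun t => by
        rw [smul_add, ← eich_add hu (by rw [polar_smul_right, hc.1, smul_zero])
          (by rw [polar_smul_right, hc'.1, smul_zero])]
        exact M.mul_mem (hc.2 t) (hc'.2 t)⟩
      smul_mem' := fun s c hc => ⟨by rw [polar_smul_right, hc.1, smul_zero], fun t => by
        rw [smul_smul]; exact hc.2 _⟩ }
  have hSw : ∀ x, X.τ x w ∈ S := fun x => ⟨by rw [X.polar_τ, P.self₁, mul_zero], fun t => by
    rw [← LinearMap.smul_apply, ← map_smul]; exact hf a _⟩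
  have hmid := (X.exists_mid_ne_bot P).2
  have hspanB := P.span_nonorth X.nd₂ X.two hmid
  have hfull : ∀ v, q₂ v = 0 → polar q₂ w v ≠ 0 → X.SliceFull M v := fun v hv hwv =>
    X.sliceFull_transport hM P.q₁ hv hwv hf
  have hstep : ∀ v' y z b v, q₂ v' = 0 → X.SliceFull M v' → polar q₁ a y * polar q₂ w v' = 0 →
      polar q₁ a z * polar q₂ w v' = 0 → polar q₁ b y = 1 → polar q₁ b z = 0 → polar q₂ v v' ≠ 0 →
      X.τ b v ∈ S → X.τ z v' ∈ S := by
    intro v' y z b v hv' hfv hy hz hby hbz hvv hc
    set g := eich q (X.τ y v') (X.τ z v') with hg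
    have hyz : polar q (X.τ y v') (X.τ z v') = 0 := by rw [X.polar_τ, polar_self', hv', mul_zero, mul_zero]
    have hgu : app g (X.τ a w) = X.τ a w := by
      rw [hg, app_eich (X.q_τ_singular y hv') hyz, X.polar_τ, X.polar_τ, hy, hz, X.q_τ_singular z hv']
      simp
    have hgc : app g (X.τ b v) = X.τ b v + polar q₂ v v' • X.τ z v' := by
      rw [hg, app_eich (X.q_τ_singular y hv') hyz, X.polar_τ, X.polar_τ, hby, hbz, X.q_τ_singular z hv']
      simp
    have hmem : app g (X.τ b v) ∈ S := by
      refine ⟨by rw [← hgu, polar_app]; exact hc.1, fun t => ?_⟩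
      have h := M.mul_mem (M.mul_mem (hfv y z) (hc.2 t)) (M.inv_mem (hfv y z))
      rwa [eich_conj hu (by rw [polar_smul_right, hc.1, smul_zero]), hgu, map_smul] at h
    rw [hgc] at hmem
    exact (Submodule.smul_mem_iff S hvv).1 (by simpa using S.sub_mem hmem hc)
  -- tensors with left factor orthogonal to `a`
  have hperp : ∀ z v, polar q₁ a z = 0 → X.τ z v ∈ S := by
    intro z v hz
    obtain ⟨y, hy, hyz⟩ := exists_notMem (S := Submodule.span F {z})
      (Y := OrthTools.orth q₁ (Submodule.span F {a})) (by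
      rw [CfsgLib.GeomClasses.OrthTools.finrank_orth X.nd₁, finrank_span_singleton ha, Fintype.card_fin]
      have := finrank_span_le_card (R := F) ({z} : Set (Fin n₁ → F))
      simp at this
      have := X.three
      omega)
    obtain ⟨b, hb, hby⟩ := exists_dual X.nd₁ hyz
    induction hspanB v using Submodule.span_induction with
    | mem v' hv' =>
      exact hstep v' y z b w hv'.1 (hfull v' hv'.1 hv'.2) (by rw [mem_orth_one.1 hy, zero_mul])
        (by rw [hz, zero_mul]) (by rw [polar_comm]; exact hby)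
        (by rw [polar_comm]; exact hb z (Submodule.mem_span_singleton_self z)) hv'.2 (hSw b)
    | zero => rw [map_zero]; exact S.zero_mem
    | add v v' _ _ hv hv' => rw [map_add]; exact S.add_mem hv hv'
    | smul t v _ hv => rw [map_smul]; exact S.smul_mem t hv
  -- tensors with right factor orthogonal to `w`
  have hsing : ∀ z s, s ∈ mid q₂ w w' → q₂ s = 0 → X.τ z s ∈ S := by
    intro z s hs hqs
    rcases eq_or_ne s 0 with rfl | hs0
    · rw [map_zero]; exact S.zero_mem
    obtain ⟨hws, hw's⟩ := mem_mid.1 hs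
    obtain ⟨y, -, hyz⟩ := exists_notMem (S := Submodule.span F ({a, z} : Set (Fin n₁ → F)))
      (Y := (⊤ : Submodule F (Fin n₁ → F))) (by
      rw [finrank_top, Module.finrank_fin_fun]
      have := CfsgLib.GeomClasses.OrthEich.finrank_pair_le (F := F) a z
      have := X.three
      omega)
    obtain ⟨b, hb, hby⟩ := exists_dual X.nd₁ hyz
    obtain ⟨v, hv⟩ := exists_polar_eq_one X.nd₂ hs0
    -- a singular vector not orthogonal to `w` or `s`
    obtain ⟨r, hr, hqr, hsr⟩ := exists_partner' (P.nondeg_mid X.nd₂) hs hs0 hqs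
    obtain ⟨hwr, hw'r⟩ := mem_mid.1 hr
    have hlink : X.SliceFull M (w' + r) := hfull _ (by
        rw [QuadraticMap.map_add ⇑q₂, P.q₂, hqr, hw'r]; simp)
      (by rw [polar_add_right, P.pair, hwr, add_zero]; exact one_ne_zero)
    have hfs : X.SliceFull M s := X.sliceFull_transport hM (by
        rw [QuadraticMap.map_add ⇑q₂, P.q₂, hqr, hw'r]; simp) hqs
      (by rw [polar_add_left, polar_comm (f := ⇑q₂) r s, hsr, hw's, zero_add]; exact one_ne_zero) hlink
    exact hstep s y z b v hqs hfs (by rw [hws, mul_zero]) (by rw [hws, mul_zero])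
      (by rw [polar_comm]; exact hby)
      (by rw [polar_comm]; exact hb z (Submodule.subset_span (by simp)))
      (by rw [polar_comm, hv]; exact one_ne_zero)
      (hperp b v (hb a (Submodule.subset_span (by simp))))
  have hright : ∀ z v, polar q₂ w v = 0 → X.τ z v ∈ S := by
    intro z v hv
    have h := P.proj_mem v
    rw [hv, zero_smul, sub_zero] at h
    have h' : X.τ z (v - polar q₂ w' v • w) ∈ S := by
      have hs := span_value X.nd₂ X.two (P.nondeg_mid X.nd₂) (by have := (X.exists_mid_ne_bot P).1; omega)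
        (Or.inr (X.exists_mid_ne_bot P).1) (c := 0) (Or.inr (X.exists_mid_ne_bot P).1) h
      generalize v - polar q₂ w' v • w = e at hs ⊢
      induction hs using Submodule.span_induction with
      | mem s hs => exact hsing z s hs.1 hs.2
      | zero => rw [map_zero]; exact S.zero_mem
      | add v v' _ _ hv hv' => rw [map_add]; exact S.add_mem hv hv'
      | smul t v _ hv => rw [map_smul]; exact S.smul_mem t hv
    rw [map_sub, map_smul] at h'
    simpa using S.add_mem h' (S.smul_mem (polar q₂ w' v) (hSw z))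
  refine ⟨hu, fun c hc => ?_⟩
  suffices c ∈ S by simpa using this.2 1
  rw [← LinearMap.BilinForm.orthogonal_orthogonal X.nd (polarBilin_isRefl X.nd) S,
    LinearMap.BilinForm.mem_orthogonal_iff]
  intro z hz
  rw [LinearMap.BilinForm.mem_orthogonal_iff] at hz
  show polar q z c = 0
  obtain ⟨r, hr⟩ := exists_polar_eq_one X.nd₁ ha
  -- `z` is a multiple of `a ⊗ w`
  have hC : ∀ φ, X.C φ z = (polar q₂ w φ * polar q₁ (X.C w' z) r) • a := by
    intro φ
    refine ext_polar X.nd₁ fun b => ?_
    have h1 : ∀ φ b, polar q₂ w φ = 0 → polar q₁ (X.C φ z) b = 0 := fun φ b h => by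
      rw [X.polar_C, polar_comm]; exact hz _ (hright b φ h)
    have h2 : polar q₁ (X.C φ z) b = polar q₂ w φ * polar q₁ (X.C w' z) b := by
      have := h1 (φ - polar q₂ w φ • w') b (by
        rw [polar_sub_right, polar_smul_right, P.pair, smul_eq_mul, mul_one, sub_self])
      rw [X.C_sub, X.C_smul, polar_sub_left, polar_smul_left, smul_eq_mul] at this
      linear_combination this
    have h3 : polar q₁ (X.C w' z) b = polar q₁ (X.C w' z) r * polar q₁ a b := by
      have hb : polar q₁ a (b - polar q₁ a b • r) = 0 := by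
        rw [polar_sub_right, polar_smul_right, hr, smul_eq_mul, mul_one, sub_self]
      have := hz _ (hperp (b - polar q₁ a b • r) w' hb)
      change polar q _ z = 0 at this
      rw [polar_comm, ← X.polar_C, polar_sub_right, polar_smul_right, smul_eq_mul] at this
      linear_combination this
    rw [h2, h3, polar_smul_left, smul_eq_mul]
    ring
  have hz' : z = polar q₁ (X.C w' z) r • X.τ a w := by
    refine sub_eq_zero.1 (X.eq_zero fun φ => ?_)
    rw [map_sub, map_smul, X.C_τ, hC, smul_smul, mul_comm, sub_self]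
  rw [hz', polar_smul_left, hc, smul_zero]

theorem commutator_le_of_sliceFull (hM : X.H ≤ M) {w w' : Fin n₂ → F} (P : Hyp q₂ w w')
    (hf : X.SliceFull M w) : commutator (O q) ≤ M := by
  obtain ⟨a, ha⟩ := exists_anisotropic X.nd₁ (by rw [Fintype.card_fin]; have := X.three; omega)
  have ha0 : a ≠ 0 := fun h => ha (by rw [h, QuadraticMap.map_zero])
  have hf' : X.SliceFull M w' := X.sliceFull_transport hM P.q₁ P.q₂ (by rw [P.pair]; exact one_ne_zero) hf
  refine CfsgLib.GeomClasses.OrthEich.commutator_le_of_pair X.nd X.seven (X.full_centre hM P hf ha0)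
    (X.full_centre hM ⟨P.q₂, P.q₁, P.pair'⟩ hf' ha0) ?_
  rw [X.polar_τ, P.pair', mul_one, polar_self']
  exact mul_ne_zero X.two ha

/-- A proper overgroup contains no isometry which is the identity modulo a singular slice. -/
theorem Over.inZ_eq_one (hO : X.Over M) {w w' : Fin n₂ → F} (P : Hyp q₂ w w') {y : O q} (hy : y ∈ M)
    (hz : X.InZ w y) : y = 1 := by
  obtain ⟨K, hK, rfl⟩ := X.exists_zel P hz
  by_contra hne
  refine hO.proper (X.commutator_le_of_sliceFull hO.le P (InW.all X P hO.le ⟨hK, hy⟩ fun h => hne ?_))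
  subst h
  exact ext_app fun z => by rw [X.app_zel P.q₁ hK, app_one]; simp

end Setting

end CfsgLib.TensorMax63
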