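import Cfsg.Agent.Lib.TensorMax63.Space

/-!
An orthogonal space which is the tensor product of two orthogonal spaces of odd dimension: contractions,
the embedding of the product of the two isometry groups, and its spinor characters.
-/

set_option autoImplicit false
set_option linter.unusedSectionVars false

namespace CfsgLib.TensorMax63

open Matrix QuadraticMap CfsgLib.Orth
open CfsgLib.GeomClasses (OrthTools.orth OrthTools.mem_orth)

variable {ι : Type} [Fintype ι] [DecidableEq ι] {F : Type*} [Field F] [Fintype F] {n₁ n₂ : ℕ}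

/-- A tensor decomposition of the orthogonal space `q`. -/
structure Setting (q : QuadraticForm F (ι → F)) (q₁ : QuadraticForm F (Fin n₁ → F))
    (q₂ : QuadraticForm F (Fin n₂ → F)) where
  /-- the pure tensors -/
  τ : (Fin n₁ → F) →ₗ[F] (Fin n₂ → F) →ₗ[F] (ι → F)
  two : (2 : F) ≠ 0
  nd : q.polarBilin.Nondegenerate
  nd₁ : q₁.polarBilin.Nondegenerate
  nd₂ : q₂.polarBilin.Nondegenerate
  odd₁ : Odd n₁
  odd₂ : Odd n₂
  three : 3 ≤ n₁
  lt : n₁ < n₂
  seven : 7 ≤ Fintype.card ι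
  big : 5 ≤ Fintype.card F ∨ 5 ≤ n₁
  polar_τ : ∀ a b a' b', polar q (τ a b) (τ a' b') = polar q₁ a a' * polar q₂ b b'
  span : Submodule.span F (Set.range fun p : (Fin n₁ → F) × (Fin n₂ → F) => τ p.1 p.2) = ⊤

variable {q : QuadraticForm F (ι → F)} {q₁ : QuadraticForm F (Fin n₁ → F)}
  {q₂ : QuadraticForm F (Fin n₂ → F)} (X : Setting q q₁ q₂)

/-- The vector dual to a functional. -/
noncomputable def toVec {n : ℕ} {p : QuadraticForm F (Fin n → F)} (hp : p.polarBilin.Nondegenerate) :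
    ((Fin n → F) →ₗ[F] F) →ₗ[F] (Fin n → F) :=
  (LinearMap.BilinForm.toDual p.polarBilin hp).symm.toLinearMap

theorem polar_toVec {n : ℕ} {p : QuadraticForm F (Fin n → F)} (hp : p.polarBilin.Nondegenerate)
    (f : (Fin n → F) →ₗ[F] F) (a : Fin n → F) : polar p (toVec hp f) a = f a := by
  rw [← QuadraticMap.polarBilin_apply_apply, toVec]
  exact LinearMap.BilinForm.apply_toDual_symm_apply _ _

theorem ext_polar {n : ℕ} {p : QuadraticForm F (Fin n → F)} (hp : p.polarBilin.Nondegenerate)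
    {x y : Fin n → F} (h : ∀ a, polar p x a = polar p y a) : x = y :=
  sub_eq_zero.1 (eq_zero_of_polar hp fun a => by rw [polar_sub_left, h, sub_self])

namespace Setting

include X in
theorem five₂ : 5 ≤ n₂ := by
  have h1 := X.three
  have h3 := X.lt
  rcases X.odd₂ with ⟨k, hk⟩
  omega

include X in
theorem hn₂ : 3 ≤ n₂ := le_trans (by norm_num) X.five₂

/-- Contraction of the right factor with `φ`. -/
noncomputable def C (φ : Fin n₂ → F) : (ι → F) →ₗ[F] (Fin n₁ → F) :=
  (toVec X.nd₁).comp (LinearMap.compl₂ q.polarBilin ((LinearMap.flip X.τ) φ))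

theorem polar_C (φ : Fin n₂ → F) (z : ι → F) (a : Fin n₁ → F) :
    polar q₁ (X.C φ z) a = polar q z (X.τ a φ) := by
  rw [C, LinearMap.comp_apply, polar_toVec]
  rfl

theorem C_τ (φ : Fin n₂ → F) (a : Fin n₁ → F) (b : Fin n₂ → F) :
    X.C φ (X.τ a b) = polar q₂ b φ • a := by
  refine ext_polar X.nd₁ fun a' => ?_
  rw [polar_C, X.polar_τ, polar_smul_left, smul_eq_mul, mul_comm]

theorem C_add (φ ψ : Fin n₂ → F) (z : ι → F) : X.C (φ + ψ) z = X.C φ z + X.C ψ z := by
  refine ext_polar X.nd₁ fun a => ?_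
  rw [polar_add_left, polar_C, polar_C, polar_C, map_add, polar_add_right]

theorem C_smul (t : F) (φ : Fin n₂ → F) (z : ι → F) : X.C (t • φ) z = t • X.C φ z := by
  refine ext_polar X.nd₁ fun a => ?_
  rw [polar_smul_left, polar_C, polar_C, map_smul, polar_smul_right]

theorem C_sub (φ ψ : Fin n₂ → F) (z : ι → F) : X.C (φ - ψ) z = X.C φ z - X.C ψ z := by
  refine ext_polar X.nd₁ fun a => ?_
  rw [polar_sub_left, polar_C, polar_C, polar_C, map_sub, polar_sub_right]

theorem C_zero (z : ι → F) : X.C 0 z = 0 := by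
  refine ext_polar X.nd₁ fun a => ?_
  rw [polar_C, map_zero, polar_zero_right, polar_zero_left]

theorem eq_zero {z : ι → F} (h : ∀ φ, X.C φ z = 0) : z = 0 := by
  refine eq_zero_of_polar X.nd fun y => ?_
  have hy : y ∈ (⊤ : Submodule F (ι → F)) := trivial
  rw [← X.span] at hy
  induction hy using Submodule.span_induction with
  | mem y hy =>
    obtain ⟨⟨a, b⟩, rfl⟩ := hy
    show polar q z (X.τ a b) = 0
    rw [← X.polar_C, h, polar_zero_left]
  | zero => exact polar_zero_right _ _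
  | add x y _ _ hx hy => rw [polar_add_right, hx, hy, add_zero]
  | smul t x _ hx => rw [polar_smul_right, hx, smul_zero]

theorem ext_τ {M : Type*} [AddCommGroup M] [Module F M] {f g : (ι → F) →ₗ[F] M}
    (h : ∀ a b, f (X.τ a b) = g (X.τ a b)) : f = g :=
  LinearMap.ext_on_range X.span fun p => h p.1 p.2

theorem τ_inj_left {b : Fin n₂ → F} (hb : b ≠ 0) {a : Fin n₁ → F} (h : X.τ a b = 0) : a = 0 := by
  obtain ⟨φ, hφ⟩ := exists_polar_eq_one X.nd₂ hb
  have := X.C_τ φ a b
  rwa [h, map_zero, hφ, one_smul, eq_comm] at this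

theorem τ_inj_right {a : Fin n₁ → F} (ha : a ≠ 0) {b : Fin n₂ → F} (h : X.τ a b = 0) : b = 0 := by
  by_contra hb
  exact ha (X.τ_inj_left hb h)

theorem q_τ (a : Fin n₁ → F) (b : Fin n₂ → F) : q (X.τ a b) = 2 * q₁ a * q₂ b := by
  have h := X.polar_τ a b a b
  rw [polar_self', polar_self', polar_self'] at h
  refine mul_left_cancel₀ X.two ?_
  linear_combination h

theorem q_τ_singular (a : Fin n₁ → F) {b : Fin n₂ → F} (hb : q₂ b = 0) : q (X.τ a b) = 0 := by
  rw [X.q_τ, hb, mul_zero]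

/-- The tensor product of two linear maps. -/
noncomputable def lift (L : (Fin n₁ → F) →ₗ[F] (Fin n₁ → F)) (M : (Fin n₂ → F) →ₗ[F] (Fin n₂ → F)) :
    (ι → F) →ₗ[F] (ι → F) :=
  ∑ j : Fin n₂, ((LinearMap.flip X.τ) (M (Pi.single j 1))).comp
    (L.comp (X.C (toVec X.nd₂ (LinearMap.proj j))))

theorem lift_τ (L : (Fin n₁ → F) →ₗ[F] (Fin n₁ → F)) (M : (Fin n₂ → F) →ₗ[F] (Fin n₂ → F))
    (a : Fin n₁ → F) (b : Fin n₂ → F) : X.lift L M (X.τ a b) = X.τ (L a) (M b) := by
  conv_rhs => rw [pi_eq_sum_univ' b, map_sum, map_sum]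
  rw [lift, LinearMap.sum_apply]
  refine Finset.sum_congr rfl fun j _ => ?_
  rw [LinearMap.comp_apply, LinearMap.comp_apply, LinearMap.flip_apply, X.C_τ, polar_comm, polar_toVec,
    LinearMap.proj_apply, map_smul, map_smul, LinearMap.smul_apply, map_smul, map_smul]

theorem q_of_polar {f : (ι → F) →ₗ[F] (ι → F)}
    (h : ∀ a b a' b', polar q (f (X.τ a b)) (f (X.τ a' b')) = polar q (X.τ a b) (X.τ a' b')) (z : ι → F) :
    q (f z) = q z := by
  have h1 : ∀ a b z, polar q (f (X.τ a b)) (f z) = polar q (X.τ a b) z := by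
    intro a b
    have := X.ext_τ (f := (q.polarBilin (f (X.τ a b))).comp f) (g := q.polarBilin (X.τ a b)) fun a' b' => h a b a' b'
    exact fun z => LinearMap.congr_fun this z
  have h3 : (q.polarBilin.flip (f z)).comp f = q.polarBilin.flip z := X.ext_τ fun a b => h1 a b z
  have h4 := LinearMap.congr_fun h3 z
  simp only [LinearMap.comp_apply, LinearMap.flip_apply, polarBilin_apply_apply, polar_self'] at h4
  exact mul_left_cancel₀ X.two h4

/-- The isometry `a ⊗ b`. -/
noncomputable def mkT (a : O q₁) (b : O q₂) : O q :=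
  mkO (X.lift (app a) (app b)) (X.lift (app a⁻¹) (app b⁻¹))
    (X.ext_τ fun x y => by
      simp [LinearMap.comp_apply, X.lift_τ, app_app_inv])
    (X.ext_τ fun x y => by
      simp [LinearMap.comp_apply, X.lift_τ, app_inv_app])
    (X.q_of_polar fun x y x' y' => by
      simp [X.lift_τ, X.polar_τ])

theorem app_mkT (a : O q₁) (b : O q₂) (x : Fin n₁ → F) (y : Fin n₂ → F) :
    app (X.mkT a b) (X.τ x y) = X.τ (app a x) (app b y) := by
  rw [mkT, app_mkO, X.lift_τ]

theorem ext_O {g h : O q} (H : ∀ a b, app g (X.τ a b) = app h (X.τ a b)) : g = h :=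
  ext_app fun x => LinearMap.congr_fun (X.ext_τ H) x

/-- The embedding of the product of the two isometry groups. -/
noncomputable def emb : O q₁ × O q₂ →* O q where
  toFun p := X.mkT p.1 p.2
  map_one' := X.ext_O fun a b => by rw [X.app_mkT]; simp
  map_mul' p p' := X.ext_O fun a b => by simp [X.app_mkT]

@[simp] theorem app_emb (p : O q₁ × O q₂) (x : Fin n₁ → F) (y : Fin n₂ → F) :
    app (X.emb p) (X.τ x y) = X.τ (app p.1 x) (app p.2 y) := X.app_mkT _ _ x y

/-- The isometries preserving the decomposition. -/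
noncomputable def T : Subgroup (O q) := X.emb.range

/-- The tensor stabiliser inside `Ω`. -/
noncomputable def H : Subgroup (O q) := X.T ⊓ commutator (O q)

theorem emb_mem_T (p : O q₁ × O q₂) : X.emb p ∈ X.T := ⟨p, rfl⟩

theorem C_emb (p : O q₁ × O q₂) (φ : Fin n₂ → F) (z : ι → F) :
    X.C φ (app (X.emb p) z) = app p.1 (X.C (app p.2⁻¹ φ) z) := by
  have h : (X.C φ).comp (app (X.emb p)) = (app p.1).comp (X.C (app p.2⁻¹ φ)) := X.ext_τ fun a b => by
    rw [LinearMap.comp_apply, LinearMap.comp_apply, X.app_emb, X.C_τ, X.C_τ, map_smul,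
      ← polar_app p.2 b, app_app_inv]
  exact LinearMap.congr_fun h z

end Setting

variable [DecidableEq F]

/-- The negative of the identity. -/
noncomputable def negO {κ : Type} [Fintype κ] [DecidableEq κ] (p : QuadraticForm F (κ → F)) : O p :=
  mkO (-LinearMap.id) (-LinearMap.id) (LinearMap.ext fun x => by simp) (LinearMap.ext fun x => by simp)
    fun x => by simp

theorem app_negO {κ : Type} [Fintype κ] [DecidableEq κ] (p : QuadraticForm F (κ → F)) (x : κ → F) :
    app (negO p) x = -x := by rw [negO, app_mkO]; rfl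

theorem detHom_negO {κ : Type} [Fintype κ] [DecidableEq κ] (p : QuadraticForm F (κ → F))
    (h : Odd (Fintype.card κ)) : detHom p (negO p) = -1 := by
  refine Units.ext ?_
  show ((negO p : Matrix.GeneralLinearGroup κ F) : Matrix κ κ F).det = -1
  rw [show ((negO p : Matrix.GeneralLinearGroup κ F) : Matrix κ κ F) = -1 from
    Matrix.ext_of_mulVec_single fun i => (app_negO p _).trans (by rw [Matrix.neg_mulVec, Matrix.one_mulVec]),
    Matrix.det_neg, Matrix.det_one,
    h.neg_one_pow, mul_one]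

/-- The value of the two characters at a reflection. -/
noncomputable def cls (c : F) : ℤˣ × ℤˣ := if IsSquare c then (-1, 1) else (1, -1)

theorem cls_mul (h2 : (2 : F) ≠ 0) {a b : F} (ha : a ≠ 0) (hb : b ≠ 0) :
    cls (a * b) = cls a * cls b * ((-1 : ℤˣ), (1 : ℤˣ)) := by
  classical
  have hchar : ringChar F ≠ 2 := fun hch => by
    have : CharP F 2 := ringChar.of_eq hch
    exact h2 CharTwo.two_eq_zero
  have key : IsSquare (a * b) ↔ (IsSquare a ↔ IsSquare b) := by
    rw [← quadraticChar_one_iff_isSquare (mul_ne_zero ha hb), ← quadraticChar_one_iff_isSquare ha,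
      ← quadraticChar_one_iff_isSquare hb, map_mul]
    rcases quadraticChar_dichotomy ha with h | h <;> rcases quadraticChar_dichotomy hb with h' | h' <;>
      rw [h, h'] <;> norm_num
  unfold cls
  split_ifs <;> simp_all

theorem chiPair_cls {κ : Type} [Fintype κ] [DecidableEq κ] {p : QuadraticForm F (κ → F)} (h2 : (2 : F) ≠ 0)
    {d : F} (hd : ¬ IsSquare d) {v : κ → F} (hv : p v ≠ 0) : chiPair p d (refl p v) = cls (p v) := by
  classical
  rw [chiPair_refl h2 hd hv]
  unfold cls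
  split_ifs <;> rfl

/-- An orthogonal basis. -/
structure IsFrame {n : ℕ} (p : QuadraticForm F (Fin n → F)) (b : Fin n → Fin n → F) : Prop where
  ne : ∀ i, p (b i) ≠ 0
  ortho : ∀ i j, i ≠ j → polar p (b i) (b j) = 0

theorem IsFrame.sum_eq {n : ℕ} {p : QuadraticForm F (Fin n → F)} {b : Fin n → Fin n → F}
    (hb : IsFrame p b) (h2 : (2 : F) ≠ 0) (y : Fin n → F) :
    y = ∑ j, ((2 * p (b j))⁻¹ * polar p y (b j)) • b j := by
  classical
  have hpol : ∀ j, polar p (b j) (b j) = 2 * p (b j) := fun j => polar_self' _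
  have hli : LinearIndependent F b := by
    rw [Fintype.linearIndependent_iff]
    intro g hg i
    have h := congrArg (fun z => p.polarBilin z (b i)) hg
    simp only [map_sum, LinearMap.sum_apply, map_smul, LinearMap.smul_apply, map_zero, LinearMap.zero_apply,
      polarBilin_apply_apply, smul_eq_mul] at h
    rw [Finset.sum_eq_single i (fun j _ hj => by rw [hb.ortho j i hj, mul_zero]) (by simp)] at h
    exact (mul_eq_zero.1 h).resolve_right (by rw [hpol]; exact mul_ne_zero h2 (hb.ne i))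
  have hspan : y ∈ Submodule.span F (Set.range b) := by
    rw [hli.span_eq_top_of_card_eq_finrank' (by simp)]
    trivial
  obtain ⟨c, hc⟩ := (Submodule.mem_span_range_iff_exists_fun F).1 hspan
  conv_lhs => rw [← hc]
  refine Finset.sum_congr rfl fun j _ => ?_
  have h := congrArg (fun z => p.polarBilin z (b j)) hc
  simp only [map_sum, LinearMap.sum_apply, map_smul, LinearMap.smul_apply, polarBilin_apply_apply,
    smul_eq_mul] at h
  rw [Finset.sum_eq_single j (fun i _ hi => by rw [hb.ortho i j hi, mul_zero]) (by simp), hpol] at h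
  rw [← h]
  congr 1
  have := mul_ne_zero h2 (hb.ne j)
  have := hb.ne j
  field_simp

theorem IsFrame.exists_mem {n : ℕ} {p : QuadraticForm F (Fin n → F)} (hp : p.polarBilin.Nondegenerate)
    (h2 : (2 : F) ≠ 0) : ∃ b, IsFrame p b := by
  classical
  haveI : Invertible (2 : F) := invertibleOfNonzero h2
  obtain ⟨v, hv⟩ := LinearMap.BilinForm.exists_orthogonal_basis (B := p.polarBilin)
    ⟨fun x y => by simp [polar_comm]⟩
  let e : Fin n ≃ Fin (Module.finrank F (Fin n → F)) := finCongr (Module.finrank_fin_fun F).symm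
  have hd : ∀ i, p (v i) ≠ 0 := by
    intro i h
    refine hv.not_isOrtho_basis_self_of_separatingLeft hp.1 i ?_
    show polar p (v i) (v i) = 0
    rw [polar_self', h, mul_zero]
  exact ⟨fun i => v (e i), fun i => hd _, fun i j hij => hv (fun h => hij (e.injective h))⟩

theorem exists_prod_refl {κ : Type} [Fintype κ] [DecidableEq κ] {p : QuadraticForm F (κ → F)}
    (h2 : (2 : F) ≠ 0) {d : F} (hd : ¬ IsSquare d) {α : Type} (v : α → κ → F) (s : Finset α)
    (hv : ∀ j ∈ s, p (v j) ≠ 0) (ho : ∀ i ∈ s, ∀ j ∈ s, i ≠ j → polar p (v i) (v j) = 0) :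
    ∃ g : O p, chiPair p d g = ∏ j ∈ s, cls (p (v j)) ∧
      ∀ z, app g z = z - ∑ j ∈ s, ((p (v j))⁻¹ * polar p z (v j)) • v j := by
  classical
  induction s using Finset.induction_on with
  | empty => exact ⟨1, by simp, fun z => by simp⟩
  | insert k s hk ih =>
    obtain ⟨g, hg, hgz⟩ := ih (fun j hj => hv j (Finset.mem_insert_of_mem hj))
      (fun i hi j hj => ho i (Finset.mem_insert_of_mem hi) j (Finset.mem_insert_of_mem hj))
    have hvk := hv k (Finset.mem_insert_self _ _)
    refine ⟨refl p (v k) * g, ?_, fun z => ?_⟩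
    · rw [map_mul, hg, chiPair_cls h2 hd hvk, Finset.prod_insert hk]
    · rw [app_mul, hgz, app_refl, Finset.sum_insert hk]
      have h0 : polar p (z - ∑ j ∈ s, ((p (v j))⁻¹ * polar p z (v j)) • v j) (v k) = polar p z (v k) := by
        rw [← polarBilin_apply_apply, map_sub, LinearMap.sub_apply, map_sum, LinearMap.sum_apply,
          Finset.sum_eq_zero fun j hj => ?_, sub_zero, polarBilin_apply_apply]
        rw [map_smul, LinearMap.smul_apply, polarBilin_apply_apply,
          ho j (Finset.mem_insert_of_mem hj) k (Finset.mem_insert_self _ _) (fun h => hk (h ▸ hj)), smul_zero]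
      rw [h0]
      abel

/-- Two homomorphisms to the four group agreeing on reflections up to the swap. -/
def IsTwist (e : ℤˣ × ℤˣ ≃* ℤˣ × ℤˣ) : Prop := e = MulEquiv.refl _ ∨ e = MulEquiv.prodComm

theorem prod_cls (h2 : (2 : F) ≠ 0) {α : Type} (s : Finset α) (hs : Odd s.card) (u : α → F)
    (hu : ∀ j ∈ s, u j ≠ 0) {k : F} (hk : k ≠ 0) :
    ∏ j ∈ s, cls (k * u j) = cls k * (((-1 : ℤˣ), (1 : ℤˣ)) * ∏ j ∈ s, cls (u j)) := by
  rw [Finset.prod_congr rfl (fun j hj => cls_mul h2 hk (hu j hj)), Finset.prod_mul_distrib,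
    Finset.prod_mul_distrib, Finset.prod_const, Finset.prod_const]
  obtain ⟨m, hm⟩ := hs
  rw [hm, pow_succ, pow_succ, pow_mul, pow_mul]
  have h1 : ∀ x : ℤˣ × ℤˣ, x ^ 2 = 1 := fun x => Prod.ext (Int.units_sq _) (Int.units_sq _)
  rw [h1, h1, one_pow, one_mul, one_mul, mul_assoc, mul_comm (∏ j ∈ s, cls (u j))]

theorem twist_of_refl (h2 : (2 : F) ≠ 0) {κ μ : Type} [Fintype κ] [DecidableEq κ] [Fintype μ] [DecidableEq μ]
    {p : QuadraticForm F (κ → F)} (hp : p.polarBilin.Nondegenerate) (hκ : 2 ≤ Fintype.card κ)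
    {p' : QuadraticForm F (μ → F)} {d : F} (hd : ¬ IsSquare d) (f : O p →* O p') (c : ℤˣ × ℤˣ)
    (hf : ∀ v, p v ≠ 0 → chiPair p' d (f (refl p v)) = cls (p v) * c) (hc : c.1 * c.2 = 1) :
    ∃ e : ℤˣ × ℤˣ ≃* ℤˣ × ℤˣ, ∀ a, chiPair p' d (f a) = e (chiPair p d a) := by
  have hcases : c = 1 ∨ c = (-1, -1) := by
    obtain ⟨a, b⟩ := c
    rcases Int.units_eq_one_or a with rfl | rfl <;> rcases Int.units_eq_one_or b with rfl | rfl <;>
      first
      | exact Or.inl rfl
      | exact Or.inr rfl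
      | exact absurd hc (by decide)
  have key : ∀ e : ℤˣ × ℤˣ ≃* ℤˣ × ℤˣ, (∀ x : ℤˣ, e (x, -x) = (x, -x) * c) →
      ∀ a, chiPair p' d (f a) = e (chiPair p d a) := by
    intro e he
    refine fun a => DFunLike.congr_fun (CfsgLib.OrthOmega.hom_ext_refl
      (f := (chiPair p' d).comp f) (f' := e.toMonoidHom.comp (chiPair p d)) (odd_gen hp h2) fun v hv => ?_) a
    show chiPair p' d (f (refl p v)) = e (chiPair p d (refl p v))
    rw [hf v hv, chiPair_cls h2 hd hv]
    unfold cls
    split_ifs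
    · exact (he (-1)).symm.trans (by rw [neg_neg])
    · exact (he 1).symm
  rcases hcases with rfl | rfl
  · exact ⟨MulEquiv.refl _, key _ fun x => by simp⟩
  · exact ⟨MulEquiv.prodComm, key _ fun x => by
      rcases Int.units_eq_one_or x with rfl | rfl <;> decide⟩

theorem cls_prod_units (c : F) : (cls c).1 * (cls c).2 = -1 := by
  unfold cls
  split_ifs <;> decide

namespace Setting

theorem chi₁ {d : F} (hd : ¬ IsSquare d) :
    ∃ e : ℤˣ × ℤˣ ≃* ℤˣ × ℤˣ, ∀ a, chiPair q d (X.emb (a, 1)) = e (chiPair q₁ d a) := by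
  classical
  obtain ⟨f, hf⟩ := IsFrame.exists_mem X.nd₂ X.two
  set c := ((-1 : ℤˣ), (1 : ℤˣ)) * ∏ j : Fin n₂, cls (2 * q₂ (f j)) with hc
  refine twist_of_refl X.two X.nd₁ (by rw [Fintype.card_fin]; have := X.three; omega) hd
    (X.emb.comp (MonoidHom.inl _ _)) c (fun v hv => ?_) ?_
  · obtain ⟨g, hg, hgz⟩ := exists_prod_refl (p := q) X.two hd (fun j => X.τ v (f j)) Finset.univ
      (fun j _ => by rw [X.q_τ]; exact mul_ne_zero (mul_ne_zero X.two hv) (hf.ne j))
      (fun i _ j _ hij => by rw [X.polar_τ, hf.ortho i j hij, mul_zero])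
    have hge : g = X.emb (refl q₁ v, 1) := X.ext_O fun x y => by
      rw [hgz, X.app_emb, app_one, app_refl, map_sub, LinearMap.sub_apply, map_smul, LinearMap.smul_apply,
        sub_right_inj]
      conv_rhs => rw [hf.sum_eq X.two y, map_sum, Finset.smul_sum]
      refine Finset.sum_congr rfl fun j _ => ?_
      rw [map_smul, smul_smul, X.polar_τ, X.q_τ]
      congr 1
      have := hf.ne j
      have := X.two
      field_simp
    show chiPair q d (X.emb (refl q₁ v, 1)) = _
    rw [← hge, hg, hc, ← prod_cls X.two Finset.univ (by simpa using X.odd₂) _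
      (fun j _ => mul_ne_zero X.two (hf.ne j)) hv]
    exact Finset.prod_congr rfl fun j _ => by rw [X.q_τ]; ring_nf
  · rw [hc, Prod.fst_mul, Prod.snd_mul, Prod.fst_prod, Prod.snd_prod, mul_mul_mul_comm,
      ← Finset.prod_mul_distrib, Finset.prod_congr rfl (fun j _ => cls_prod_units _), Finset.prod_const,
      Finset.card_univ, Fintype.card_fin, X.odd₂.neg_one_pow]
    decide

theorem chi₂ {d : F} (hd : ¬ IsSquare d) :
    ∃ e : ℤˣ × ℤˣ ≃* ℤˣ × ℤˣ, ∀ b, chiPair q d (X.emb (1, b)) = e (chiPair q₂ d b) := by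
  classical
  obtain ⟨f, hf⟩ := IsFrame.exists_mem X.nd₁ X.two
  set c := ((-1 : ℤˣ), (1 : ℤˣ)) * ∏ j : Fin n₁, cls (2 * q₁ (f j)) with hc
  refine twist_of_refl X.two X.nd₂ (by rw [Fintype.card_fin]; have := X.hn₂; omega) hd
    (X.emb.comp (MonoidHom.inr _ _)) c (fun v hv => ?_) ?_
  · obtain ⟨g, hg, hgz⟩ := exists_prod_refl (p := q) X.two hd (fun j => X.τ (f j) v) Finset.univ
      (fun j _ => by rw [X.q_τ]; exact mul_ne_zero (mul_ne_zero X.two (hf.ne j)) hv)
      (fun i _ j _ hij => by rw [X.polar_τ, hf.ortho i j hij, zero_mul])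
    have hge : g = X.emb (1, refl q₂ v) := X.ext_O fun x y => by
      rw [hgz, X.app_emb, app_one, app_refl, map_sub, map_smul, sub_right_inj]
      conv_rhs => rw [hf.sum_eq X.two x, map_sum, LinearMap.sum_apply, Finset.smul_sum]
      refine Finset.sum_congr rfl fun j _ => ?_
      rw [map_smul, LinearMap.smul_apply, smul_smul, X.polar_τ, X.q_τ]
      congr 1
      have := hf.ne j
      have := X.two
      field_simp
    show chiPair q d (X.emb (1, refl q₂ v)) = _
    rw [← hge, hg, hc, ← prod_cls X.two Finset.univ (by simpa using X.odd₁) _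
      (fun j _ => mul_ne_zero X.two (hf.ne j)) hv]
    exact Finset.prod_congr rfl fun j _ => by rw [X.q_τ]; ring_nf
  · rw [hc, Prod.fst_mul, Prod.snd_mul, Prod.fst_prod, Prod.snd_prod, mul_mul_mul_comm,
      ← Finset.prod_mul_distrib, Finset.prod_congr rfl (fun j _ => cls_prod_units _), Finset.prod_const,
      Finset.card_univ, Fintype.card_fin, X.odd₁.neg_one_pow]
    decide

theorem emb₁_mem {a : O q₁} : X.emb (a, 1) ∈ commutator (O q) ↔ a ∈ commutator (O q₁) := by
  obtain ⟨d, hd⟩ := CfsgLib.OrthOmega.exists_not_square X.two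
  obtain ⟨e, he⟩ := X.chi₁ hd
  rw [commutator_eq X.nd X.two hd, commutator_eq X.nd₁ X.two hd, MonoidHom.mem_ker, MonoidHom.mem_ker, he,
    MulEquiv.map_eq_one_iff]

theorem emb₂_mem {b : O q₂} : X.emb (1, b) ∈ commutator (O q) ↔ b ∈ commutator (O q₂) := by
  obtain ⟨d, hd⟩ := CfsgLib.OrthOmega.exists_not_square X.two
  obtain ⟨e, he⟩ := X.chi₂ hd
  rw [commutator_eq X.nd X.two hd, commutator_eq X.nd₂ X.two hd, MonoidHom.mem_ker, MonoidHom.mem_ker, he,
    MulEquiv.map_eq_one_iff]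

theorem emb₁_H {a : O q₁} (ha : a ∈ commutator (O q₁)) : X.emb (a, 1) ∈ X.H :=
  ⟨X.emb_mem_T _, X.emb₁_mem.2 ha⟩

theorem emb₂_H {b : O q₂} (hb : b ∈ commutator (O q₂)) : X.emb (1, b) ∈ X.H :=
  ⟨X.emb_mem_T _, X.emb₂_mem.2 hb⟩

/-- Any isometry of the left factor can be completed inside `Ω` from a subgroup with all spinor classes. -/
theorem compensate (S : Subgroup (O q₂))
    (hS : ∀ d : F, ¬ IsSquare d → ∀ y, ∃ u ∈ S, chiPair q₂ d u = y) (a : O q₁) :
    ∃ u ∈ S, X.emb (a, u) ∈ X.H := by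
  obtain ⟨d, hd⟩ := CfsgLib.OrthOmega.exists_not_square X.two
  obtain ⟨e₂, he₂⟩ := X.chi₂ hd
  obtain ⟨u, hu, hue⟩ := hS d hd (e₂.symm (chiPair q d (X.emb (a, 1)))⁻¹)
  refine ⟨u, hu, X.emb_mem_T _, ?_⟩
  show X.emb (a, u) ∈ commutator (O q)
  rw [commutator_eq X.nd X.two hd, MonoidHom.mem_ker,
    show (a, u) = (a, (1 : O q₂)) * ((1 : O q₁), u) by simp, map_mul, map_mul, he₂, hue, MulEquiv.apply_symm_apply,
    mul_inv_cancel]

/-- Any isometry of the right factor can be completed inside `Ω`. -/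
theorem compensate₁ (b : O q₂) : ∃ a, X.emb (a, b) ∈ X.H := by
  obtain ⟨d, hd⟩ := CfsgLib.OrthOmega.exists_not_square X.two
  obtain ⟨e₁, he₁⟩ := X.chi₁ hd
  obtain ⟨a, hae⟩ := chiPair_surjective X.nd₁ X.two hd (by rw [Fintype.card_fin]; have := X.three; omega)
    (e₁.symm (chiPair q d (X.emb (1, b)))⁻¹)
  refine ⟨a, X.emb_mem_T _, ?_⟩
  show X.emb (a, b) ∈ commutator (O q)
  rw [commutator_eq X.nd X.two hd, MonoidHom.mem_ker,
    show (a, b) = (a, (1 : O q₂)) * ((1 : O q₁), b) by simp, map_mul, map_mul, he₁, hae, MulEquiv.apply_symm_apply,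
    inv_mul_cancel]

end Setting

/-- A subgroup containing the reflections of a non-degenerate plane has all spinor classes. -/
theorem surj_of_plane {n : ℕ} {p : QuadraticForm F (Fin n → F)} (h2 : (2 : F) ≠ 0) (S : Subgroup (O p))
    {Y : Submodule F (Fin n → F)} (hY : Nondeg p Y) (hd : 2 ≤ Module.finrank F Y)
    (hS : ∀ v ∈ Y, p v ≠ 0 → refl p v ∈ S) : ∀ d : F, ¬ IsSquare d → ∀ y, ∃ u ∈ S, chiPair p d u = y := by
  classical
  intro d hd'
  have hd0 : d ≠ 0 := fun h => hd' (h ▸ IsSquare.zero)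
  obtain ⟨u, hu, hu1⟩ := CfsgLib.OrthOmega.exists_value_sub h2 Y hY.sep hd (one_ne_zero : (1 : F) ≠ 0)
  obtain ⟨v, hv, hv1⟩ := CfsgLib.OrthOmega.exists_value_sub h2 Y hY.sep hd hd0
  have hu0 : p u ≠ 0 := hu1 ▸ one_ne_zero
  have hv0 : p v ≠ 0 := hv1 ▸ hd0
  have h1 : chiPair p d (refl p u) = (-1, 1) := by
    rw [chiPair_refl h2 hd' hu0, if_pos (by rw [hu1]; exact IsSquare.one)]
  have h1' : chiPair p d (refl p v) = (1, -1) := by
    rw [chiPair_refl h2 hd' hv0, if_neg (by rw [hv1]; exact hd')]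
  rintro ⟨a, b⟩
  rcases Int.units_eq_one_or a with rfl | rfl <;> rcases Int.units_eq_one_or b with rfl | rfl
  · exact ⟨1, S.one_mem, map_one _⟩
  · exact ⟨_, hS v hv hv0, h1'⟩
  · exact ⟨_, hS u hu hu0, h1⟩
  · exact ⟨_, S.mul_mem (hS u hu hu0) (hS v hv hv0), by rw [map_mul, h1, h1']; rfl⟩

namespace Setting

theorem det_normalise (g : O q) (hg : g ∈ X.T) :
    ∃ a b, detHom q₁ a = 1 ∧ g = X.emb (a, b) := by
  obtain ⟨⟨a, b⟩, rfl⟩ := hg
  have hdet : detHom q₁ a = 1 ∨ detHom q₁ a = -1 := by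
    obtain ⟨d, hd⟩ := CfsgLib.OrthOmega.exists_not_square X.two
    rw [detHom_eq X.nd₁ X.two hd]
    rcases Int.units_eq_one_or (chi q₁ 1 a * chi q₁ d a) with h | h <;> rw [h]
    · left; simp
    · right; ext; simp
  rcases hdet with h | h
  · exact ⟨a, b, h, rfl⟩
  · refine ⟨negO q₁ * a, negO q₂ * b, ?_, X.ext_O fun x y => ?_⟩
    · rw [map_mul, h, detHom_negO q₁ (by rw [Fintype.card_fin]; exact X.odd₁), neg_one_mul, neg_neg]
    · simp [app_negO]

theorem emb_eq_one {a : O q₁} {b : O q₂} (ha : detHom q₁ a = 1) (h : X.emb (a, b) = 1) : a = 1 ∧ b = 1 := by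
  have key : ∀ x y, X.τ (app a x) (app b y) = X.τ x y := fun x y => by
    have := X.app_emb (a, b) x y
    rw [h, app_one] at this
    exact this.symm
  obtain ⟨f, hf⟩ := IsFrame.exists_mem X.nd₂ X.two
  let j : Fin n₂ := ⟨0, by have := X.hn₂; omega⟩
  set e := f j
  have he0 : e ≠ 0 := fun h => hf.ne j (by rw [show f j = e from rfl, h, QuadraticMap.map_zero])
  have hbe : app b e ≠ 0 := fun h0 => he0 (app_injective b (by rw [h0, map_zero]))
  obtain ⟨φ, hφ⟩ := exists_polar_eq_one X.nd₂ hbe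
  have hax : ∀ x, app a x = polar q₂ e φ • x := fun x => by
    have := congrArg (X.C φ) (key x e)
    rwa [X.C_τ, X.C_τ, hφ, one_smul] at this
  set l := polar q₂ e φ
  have hl : app a = l • LinearMap.id := LinearMap.ext hax
  obtain ⟨x₀, hx₀⟩ := exists_anisotropic X.nd₁ (by rw [Fintype.card_fin]; have := X.three; omega)
  have hl2 : l * l = 1 := by
    have := Q_app a x₀
    rw [hax, QuadraticMap.map_smul, smul_eq_mul] at this
    exact mul_right_cancel₀ hx₀ (this.trans (one_mul _).symm)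
  have ha1 : a = 1 := by
    rcases mul_self_eq_one_iff.1 hl2 with h1 | h1
    · exact ext_app fun x => by rw [hax, h1, one_smul, app_one]
    · exfalso
      have hneg : a = negO q₁ := ext_app fun x => by rw [hax, h1, neg_one_smul, app_negO]
      rw [hneg, detHom_negO q₁ (by rw [Fintype.card_fin]; exact X.odd₁)] at ha
      exact X.two (by have := congrArg Units.val ha; simp at this; linear_combination -this)
  refine ⟨ha1, ext_app fun y => ?_⟩
  have hx0 : x₀ ≠ 0 := fun h => hx₀ (by rw [h, QuadraticMap.map_zero])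
  have := key x₀ y
  rw [ha1, app_one, ← sub_eq_zero, ← map_sub] at this
  rw [app_one]
  exact sub_eq_zero.1 (X.τ_inj_right hx0 this)

theorem emb_inj {a a' : O q₁} {b b' : O q₂} (ha : detHom q₁ a = 1) (ha' : detHom q₁ a' = 1)
    (h : X.emb (a, b) = X.emb (a', b')) : a = a' ∧ b = b' := by
  have h' : X.emb (a * a'⁻¹, b * b'⁻¹) = 1 := by
    rw [show (a * a'⁻¹, b * b'⁻¹) = (a, b) * (a', b')⁻¹ from rfl, map_mul, map_inv, h, mul_inv_cancel]
  obtain ⟨h1, h3⟩ := X.emb_eq_one (by rw [map_mul, map_inv, ha, ha', inv_one, mul_one]) h'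
  exact ⟨mul_inv_eq_one.1 h1, mul_inv_eq_one.1 h3⟩

end Setting

/-- A similitude of an odd-dimensional space is a scalar multiple of an isometry. -/
theorem similitude {n : ℕ} {p : QuadraticForm F (Fin n → F)} (hp : p.polarBilin.Nondegenerate)
    (h2 : (2 : F) ≠ 0) (hn : Odd n) {μ : F} (hμ : μ ≠ 0) (φ : (Fin n → F) →ₗ[F] (Fin n → F))
    (h : ∀ x y, polar p (φ x) (φ y) = μ * polar p x y) :
    ∃ (ν : F) (a : O p), ν ≠ 0 ∧ ν * ν = μ ∧ ∀ x, φ x = ν • app a x := by
  set B := LinearMap.BilinForm.toMatrix' p.polarBilin with hB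
  have hBd : B.det ≠ 0 :=
    Matrix.nondegenerate_iff_det_ne_zero.1 (LinearMap.BilinForm.nondegenerate_toMatrix'_iff.2 hp)
  have hmat : (LinearMap.toMatrix' φ).transpose * B * LinearMap.toMatrix' φ = μ • B := by
    have h' := LinearMap.BilinForm.toMatrix'_comp p.polarBilin φ φ
    rw [show LinearMap.BilinForm.comp p.polarBilin φ φ = μ • p.polarBilin from
      LinearMap.ext₂ fun x y => h x y, map_smul] at h'
    exact h'.symm
  have hdet := congrArg Matrix.det hmat
  rw [Matrix.det_mul, Matrix.det_mul, Matrix.det_transpose, Matrix.det_smul, Fintype.card_fin] at hdet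
  set D := (LinearMap.toMatrix' φ).det
  have hD2 : D * D = μ ^ n := mul_right_cancel₀ hBd (by linear_combination hdet)
  obtain ⟨k, hk⟩ := hn
  set ν := D / μ ^ k with hν
  have hμk : μ ^ k ≠ 0 := pow_ne_zero _ hμ
  have hν2 : ν * ν = μ := by
    rw [hν, div_mul_div_comm, div_eq_iff (mul_ne_zero hμk hμk), hD2, hk]
    ring
  have hν0 : ν ≠ 0 := fun h0 => hμ (by rw [← hν2, h0, zero_mul])
  have hq : ∀ x, p ((ν⁻¹ • φ) x) = p x := by
    intro x
    have h1 := h x x
    rw [polar_self', polar_self', mul_left_comm] at h1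
    rw [LinearMap.smul_apply, QuadraticMap.map_smul, mul_left_cancel₀ h2 h1, smul_eq_mul, ← hν2]
    field_simp
  have hinj : Function.Injective (ν⁻¹ • φ) := by
    rw [← LinearMap.ker_eq_bot, Submodule.eq_bot_iff]
    intro x hx
    refine eq_zero_of_polar hp fun y => ?_
    have hx' : φ x = 0 := by
      have := (LinearMap.mem_ker.1 hx)
      rw [LinearMap.smul_apply, smul_eq_zero] at this
      exact this.resolve_left (inv_ne_zero hν0)
    have h1 := h x y
    rw [hx', polar_zero_left, eq_comm, mul_eq_zero] at h1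
    exact h1.resolve_left hμ
  let e : (Fin n → F) ≃ₗ[F] (Fin n → F) := LinearEquiv.ofInjectiveEndo (ν⁻¹ • φ) hinj
  refine ⟨ν, CfsgLib.OrthOmega.ofEquiv e (fun x => hq x), hν0, hν2, fun x => ?_⟩
  rw [show app (CfsgLib.OrthOmega.ofEquiv (Q := p) e _) x = e x from CfsgLib.OrthOmega.app_ofEquiv e (fun x => hq x) x]
  show φ x = ν • ((ν⁻¹ • φ) x)
  rw [LinearMap.smul_apply, smul_inv_smul₀ hν0]

end CfsgLib.TensorMax63
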